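import Mathlib
import Cfsg.Agent.PLocal.TwoQuad
import Cfsg.Agent.PLocal.SLTwoSylow

/-!
# Two quadratic elements: a central involution (helper879)

`Γ` a finite group, `ρ : Γ → GL(V)` faithful in odd characteristic `p`, `t`, `s` with `(ρ t - 1)² = 0 = (ρ s - 1)²`.
If `⟨t, s⟩` is not a `p`-group then it contains an involution commuting with `t` and `s`.
-/

set_option autoImplicit false
set_option linter.unusedSimpArgs false

namespace Cfsg.Agent.H879.QuadPair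

section Algebra

variable {E : Type*} [Ring E]

/-- `A = α + β N + γ K + δ N K` and `A'` is its conjugate. -/
def QForm (S : Set E) (N K : E) (A A' : E) : Prop :=
  ∃ α ∈ S, ∃ β ∈ S, ∃ γ ∈ S, ∃ δ ∈ S, A = α + β * N + γ * K + δ * (N * K) ∧
    A' = α + δ * (N * K + K * N) - β * N - γ * K - δ * (N * K)

theorem QForm.mul {S : Set E} {N K : E} (hN : N * N = 0) (hK : K * K = 0)
    (hadd : ∀ a ∈ S, ∀ b ∈ S, a + b ∈ S) (hneg : ∀ a ∈ S, -a ∈ S) (hmul : ∀ a ∈ S, ∀ b ∈ S, a * b ∈ S)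
    (hc : N * K + K * N ∈ S) (hSN : ∀ a ∈ S, N * a = a * N) (hSK : ∀ a ∈ S, K * a = a * K)
    (hSS : ∀ a ∈ S, ∀ b ∈ S, a * b = b * a) {A A' B B' : E} (hA : QForm S N K A A')
    (hB : QForm S N K B B') : QForm S N K (A * B) (B' * A') := by
  obtain ⟨α, hα, β, hβ, γ, hγ, δ, hδ, rfl, rfl⟩ := hA
  obtain ⟨α', hα', β', hβ', γ', hγ', δ', hδ', rfl, rfl⟩ := hB
  obtain ⟨c, hcdef⟩ : ∃ c, c = N * K + K * N := ⟨_, rfl⟩
  rw [← hcdef] at hc ⊢
  have hKN : K * N = c - N * K := by rw [hcdef]; abel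
  have hKN' : ∀ x, K * (N * x) = c * x - N * (K * x) := fun x => by
    rw [← mul_assoc, hKN, sub_mul, mul_assoc]
  have hNN' : ∀ x, N * (N * x) = 0 := fun x => by rw [← mul_assoc, hN, zero_mul]
  have hKK' : ∀ x, K * (K * x) = 0 := fun x => by rw [← mul_assoc, hK, zero_mul]
  have hN1 : ∀ a ∈ S, ∀ x, N * (a * x) = a * (N * x) := fun a ha x => by
    rw [← mul_assoc, hSN a ha, mul_assoc]
  have hK1 : ∀ a ∈ S, ∀ x, K * (a * x) = a * (K * x) := fun a ha x => by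
    rw [← mul_assoc, hSK a ha, mul_assoc]
  have hS1 : ∀ a ∈ S, ∀ b ∈ S, ∀ x, a * (b * x) = b * (a * x) := fun a ha b hb x => by
    rw [← mul_assoc, hSS a ha b hb, mul_assoc]
  refine ⟨α * α' + γ * β' * c, ?_, α * β' + β * α' + δ * β' * c, ?_,
    α * γ' + γ * α' + γ * δ' * c, ?_, α * δ' + β * γ' + -(γ * β') + δ * α' + δ * δ' * c, ?_, ?_, ?_⟩
  · exact hadd _ (hmul _ hα _ hα') _ (hmul _ (hmul _ hγ _ hβ') _ hc)
  · exact hadd _ (hadd _ (hmul _ hα _ hβ') _ (hmul _ hβ _ hα')) _ (hmul _ (hmul _ hδ _ hβ') _ hc)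
  · exact hadd _ (hadd _ (hmul _ hα _ hγ') _ (hmul _ hγ _ hα')) _ (hmul _ (hmul _ hγ _ hδ') _ hc)
  · exact hadd _ (hadd _ (hadd _ (hadd _ (hmul _ hα _ hδ') _ (hmul _ hβ _ hγ')) _
      (hneg _ (hmul _ hγ _ hβ'))) _ (hmul _ hδ _ hα')) _ (hmul _ (hmul _ hδ _ hδ') _ hc)
  · simp only [mul_add, add_mul, mul_assoc, hN1 _ hα', hN1 _ hβ', hN1 _ hγ', hN1 _ hδ', hK1 _ hα',
      hK1 _ hβ', hK1 _ hγ', hK1 _ hδ', hSN _ hα', hSN _ hβ', hSN _ hγ', hSN _ hδ', hSK _ hα',
      hSK _ hβ', hSK _ hγ', hSK _ hδ', hN, hK, hNN', hKK', hKN, hKN', mul_zero, mul_sub, sub_mul,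
      neg_mul, hSN _ hc, hSK _ hc, hN1 _ hc, hK1 _ hc, sub_zero, add_zero, zero_mul, zero_sub]
    abel
  · simp only [mul_add, add_mul, mul_assoc, hN1 _ hα, hN1 _ hβ, hN1 _ hγ, hN1 _ hδ, hK1 _ hα,
      hK1 _ hβ, hK1 _ hγ, hK1 _ hδ, hSN _ hα, hSN _ hβ, hSN _ hγ, hSN _ hδ, hSK _ hα,
      hSK _ hβ, hSK _ hγ, hSK _ hδ, hN, hK, hNN', hKK', hKN, hKN', mul_zero, mul_sub, sub_mul,
      neg_mul, hSN _ hc, hSK _ hc, hN1 _ hc, hK1 _ hc, sub_zero, add_zero, zero_mul, zero_sub,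
      hS1 _ hα' _ hα, hS1 _ hα' _ hβ, hS1 _ hα' _ hγ, hS1 _ hα' _ hδ,
      hS1 _ hβ' _ hα, hS1 _ hβ' _ hβ, hS1 _ hβ' _ hγ, hS1 _ hβ' _ hδ,
      hS1 _ hγ' _ hα, hS1 _ hγ' _ hβ, hS1 _ hγ' _ hγ, hS1 _ hγ' _ hδ,
      hS1 _ hδ' _ hα, hS1 _ hδ' _ hβ, hS1 _ hδ' _ hγ, hS1 _ hδ' _ hδ,
      hSS _ hα' _ hα, hSS _ hα' _ hβ, hSS _ hα' _ hγ, hSS _ hα' _ hδ,
      hSS _ hβ' _ hα, hSS _ hβ' _ hβ, hSS _ hβ' _ hγ, hSS _ hβ' _ hδ,
      hSS _ hγ' _ hα, hSS _ hγ' _ hβ, hSS _ hγ' _ hγ, hSS _ hγ' _ hδ,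
      hSS _ hδ' _ hα, hSS _ hδ' _ hβ, hSS _ hδ' _ hγ, hSS _ hδ' _ hδ,
      hS1 _ hc _ hα, hS1 _ hc _ hβ, hS1 _ hc _ hγ, hS1 _ hc _ hδ, hS1 _ hc _ hα', hS1 _ hc _ hβ',
      hS1 _ hc _ hγ', hS1 _ hc _ hδ', hSS _ hc _ hα, hSS _ hc _ hβ, hSS _ hc _ hγ, hSS _ hc _ hδ,
      hSS _ hc _ hα', hSS _ hc _ hβ', hSS _ hc _ hγ', hSS _ hc _ hδ']
    abel

theorem QForm.symm {S : Set E} {N K : E} (hadd : ∀ a ∈ S, ∀ b ∈ S, a + b ∈ S)
    (hneg : ∀ a ∈ S, -a ∈ S) (hmul : ∀ a ∈ S, ∀ b ∈ S, a * b ∈ S)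
    (hc : N * K + K * N ∈ S) {A A' : E} (hA : QForm S N K A A') : QForm S N K A' A := by
  obtain ⟨α, hα, β, hβ, γ, hγ, δ, hδ, rfl, rfl⟩ := hA
  refine ⟨α + δ * (N * K + K * N), hadd _ hα _ (hmul _ hδ _ hc), -β, hneg _ hβ, -γ, hneg _ hγ,
    -δ, hneg _ hδ, ?_, ?_⟩ <;>
  · simp only [neg_mul]
    abel

end Algebra

section Group

variable {F : Type*} [Field F] {V : Type*} [AddCommGroup V] [Module F V]

theorem qForm_closure {Γ : Type*} [Group Γ] (ρ : Γ →* Module.End F V) {t s : Γ}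
    (ht : (ρ t - 1) ^ 2 = 0) (hs : (ρ s - 1) ^ 2 = 0) {j : Γ} (hj : j ∈ Subgroup.closure {t, s}) :
    QForm (Algebra.adjoin F {(ρ t - 1) * (ρ s - 1) + (ρ s - 1) * (ρ t - 1)} : Set (Module.End F V))
      (ρ t - 1) (ρ s - 1) (ρ j) (ρ j⁻¹) := by
  set N := ρ t - 1 with hNdef
  set K := ρ s - 1 with hKdef
  set c := N * K + K * N with hcdef
  have hN : N * N = 0 := by rw [← pow_two]; exact ht
  have hK : K * K = 0 := by rw [← pow_two]; exact hs
  have hNc : N * c = c * N := by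
    rw [hcdef, mul_add, add_mul, ← mul_assoc, ← mul_assoc, hN, zero_mul, mul_assoc K N N, hN,
      mul_zero, zero_add, add_zero]
  have hKc : K * c = c * K := by
    rw [hcdef, mul_add, add_mul, ← mul_assoc, ← mul_assoc, hK, zero_mul, mul_assoc N K K, hK,
      mul_zero, zero_add, add_zero]
  have hcS : c ∈ Algebra.adjoin F {c} := Algebra.subset_adjoin rfl
  have hcomm : ∀ x : Module.End F V, x * c = c * x → ∀ a ∈ Algebra.adjoin F {c}, x * a = a * x := by
    intro x hx a ha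
    induction ha using Algebra.adjoin_induction with
    | mem y hy =>
      rw [Set.mem_singleton_iff] at hy
      rw [hy, hx]
    | algebraMap r => exact (Algebra.commutes r x).symm
    | add y z _ _ hy hz => rw [mul_add, add_mul, hy, hz]
    | mul y z _ _ hy hz => rw [← mul_assoc, hy, mul_assoc, hz, mul_assoc]
  have hSN := hcomm N hNc
  have hSK := hcomm K hKc
  have hSS : ∀ a ∈ Algebra.adjoin F {c}, ∀ b ∈ Algebra.adjoin F {c}, a * b = b * a := by
    intro a ha b hb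
    exact hcomm a (hcomm c rfl a ha).symm b hb
  have hadd : ∀ a ∈ (Algebra.adjoin F {c} : Set (Module.End F V)),
      ∀ b ∈ (Algebra.adjoin F {c} : Set (Module.End F V)),
        a + b ∈ (Algebra.adjoin F {c} : Set (Module.End F V)) := fun a ha b hb => add_mem ha hb
  have hneg : ∀ a ∈ (Algebra.adjoin F {c} : Set (Module.End F V)),
        -a ∈ (Algebra.adjoin F {c} : Set (Module.End F V)) := fun a ha => neg_mem ha
  have hmul : ∀ a ∈ (Algebra.adjoin F {c} : Set (Module.End F V)),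
      ∀ b ∈ (Algebra.adjoin F {c} : Set (Module.End F V)),
        a * b ∈ (Algebra.adjoin F {c} : Set (Module.End F V)) := fun a ha b hb => mul_mem ha hb
  have h1 : (1 : Module.End F V) ∈ (Algebra.adjoin F {c} : Set (Module.End F V)) := one_mem _
  have h0 : (0 : Module.End F V) ∈ (Algebra.adjoin F {c} : Set (Module.End F V)) := zero_mem _
  have ht1 : ρ t = 1 + N := by rw [hNdef]; abel
  have hs1 : ρ s = 1 + K := by rw [hKdef]; abel
  have hti : ρ t⁻¹ = 1 - N := by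
    have h2 : ρ t * (1 - N) = 1 := by
      rw [ht1, mul_sub, mul_one, add_mul, hN, add_zero, one_mul]
      abel
    calc ρ t⁻¹ = ρ t⁻¹ * (ρ t * (1 - N)) := by rw [h2, mul_one]
      _ = 1 - N := by rw [← mul_assoc, ← map_mul, inv_mul_cancel, map_one, one_mul]
  have hsi : ρ s⁻¹ = 1 - K := by
    have h2 : ρ s * (1 - K) = 1 := by
      rw [hs1, mul_sub, mul_one, add_mul, hK, add_zero, one_mul]
      abel
    calc ρ s⁻¹ = ρ s⁻¹ * (ρ s * (1 - K)) := by rw [h2, mul_one]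
      _ = 1 - K := by rw [← mul_assoc, ← map_mul, inv_mul_cancel, map_one, one_mul]
  induction hj using Subgroup.closure_induction with
  | mem x hx =>
    rcases hx with rfl | rfl
    · exact ⟨1, h1, 1, h1, 0, h0, 0, h0, by rw [ht1]; simp, by rw [hti]; simp⟩
    · exact ⟨1, h1, 0, h0, 1, h1, 0, h0, by rw [hs1]; simp, by rw [hsi]; simp⟩
  | one => exact ⟨1, h1, 0, h0, 0, h0, 0, h0, by simp, by simp⟩
  | mul x y _ _ hx hy =>
    rw [map_mul, mul_inv_rev, map_mul]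
    exact QForm.mul hN hK hadd hneg hmul hcS hSN hSK hSS hx hy
  | inv x _ hx =>
    rw [inv_inv]
    exact hx.symm hadd hneg hmul hcS

/-- An involution of `⟨t, s⟩` commutes with `t` and `s`. -/
theorem commute_of_sq (h2 : (2 : F) ≠ 0) {Γ : Type*} [Group Γ] (ρ : Γ →* Module.End F V) {t s : Γ}
    (ht : (ρ t - 1) ^ 2 = 0) (hs : (ρ s - 1) ^ 2 = 0) {j : Γ} (hj : j ∈ Subgroup.closure {t, s})
    (hjj : j * j = 1) : ρ j * ρ t = ρ t * ρ j ∧ ρ j * ρ s = ρ s * ρ j := by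
  obtain ⟨α, hα, β, hβ, γ, hγ, δ, hδ, e1, e2⟩ := qForm_closure ρ ht hs hj
  have hinv : j⁻¹ = j := by rw [inv_eq_iff_mul_eq_one, hjj]
  rw [hinv] at e2
  set N := ρ t - 1 with hNdef
  set K := ρ s - 1 with hKdef
  set c := N * K + K * N with hcdef
  have hN : N * N = 0 := by rw [← pow_two]; exact ht
  have hK : K * K = 0 := by rw [← pow_two]; exact hs
  have hNc : N * c = c * N := by
    rw [hcdef, mul_add, add_mul, ← mul_assoc, ← mul_assoc, hN, zero_mul, mul_assoc K N N, hN,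
      mul_zero, zero_add, add_zero]
  have hKc : K * c = c * K := by
    rw [hcdef, mul_add, add_mul, ← mul_assoc, ← mul_assoc, hK, zero_mul, mul_assoc N K K, hK,
      mul_zero, zero_add, add_zero]
  have hcomm : ∀ x : Module.End F V, x * c = c * x → ∀ a ∈ Algebra.adjoin F {c}, x * a = a * x := by
    intro x hx a ha
    induction ha using Algebra.adjoin_induction with
    | mem y hy =>
      rw [Set.mem_singleton_iff] at hy
      rw [hy, hx]
    | algebraMap r => exact (Algebra.commutes r x).symm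
    | add y z _ _ hy hz => rw [mul_add, add_mul, hy, hz]
    | mul y z _ _ hy hz => rw [← mul_assoc, hy, mul_assoc, hz, mul_assoc]
  have hsum : (2 : F) • ρ j = 2 * α + δ * c := by
    rw [two_smul]
    nth_rewrite 1 [e1]
    rw [e2, two_mul]
    abel
  have hmem : (2 : F) • ρ j ∈ Algebra.adjoin F {c} := by
    rw [hsum, two_mul]
    exact add_mem (add_mem hα hα) (mul_mem hδ (Algebra.subset_adjoin rfl))
  have key : ∀ x : Module.End F V, x * c = c * x → ρ j * x = x * ρ j := by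
    intro x hx
    have h3 := hcomm x hx _ hmem
    rw [mul_smul_comm, smul_mul_assoc] at h3
    exact (smul_right_injective (Module.End F V) h2 h3).symm
  have ht1 : ρ t = 1 + N := by rw [hNdef]; abel
  have hs1 : ρ s = 1 + K := by rw [hKdef]; abel
  refine ⟨key _ ?_, key _ ?_⟩
  · rw [ht1, add_mul 1 N c, mul_add c 1 N, hNc, one_mul, mul_one]
  · rw [hs1, add_mul 1 K c, mul_add c 1 K, hKc, one_mul, mul_one]

/-- Two quadratic elements generate a `p`-group or a group of even order. -/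
theorem exists_sq {p : ℕ} [hp : Fact p.Prime] (hp2 : p ≠ 2) [CharP F p] [FiniteDimensional F V]
    {Γ : Type*} [Group Γ] [Finite Γ] (ρ : Γ →* Module.End F V) (hρ : Function.Injective ρ) {t s : Γ}
    (ht : (ρ t - 1) ^ 2 = 0) (hs : (ρ s - 1) ^ 2 = 0)
    (hgen : Subgroup.closure ({t, s} : Set Γ) = ⊤) (hnp : ¬ IsPGroup p Γ) :
    ∃ j : Γ, j ≠ 1 ∧ j * j = 1 := by
  by_contra hcon
  push Not at hcon
  let K := AlgebraicClosure F
  have : CharP K p := charP_of_injective_algebraMap (FaithfulSMul.algebraMap_injective F K) p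
  let θ : Module.End F V →ₐ[F] Module.End K (TensorProduct F K V) := Module.End.baseChangeHom F K V
  have hθ : Function.Injective θ := LinearMap.baseChangeHom_injective F V K
  let ρ' : Representation K Γ (TensorProduct F K V) := (θ : Module.End F V →* _).comp ρ
  have hρ' : Function.Injective ρ' := hθ.comp hρ
  have hq : ∀ x : Γ, (ρ x - 1) ^ 2 = 0 → ∀ w, ρ' x (ρ' x w - w) = ρ' x w - w := by
    intro x hx w
    have h1 : (ρ' x - 1) ^ 2 = 0 := by
      have h2 : ρ' x - 1 = θ (ρ x - 1) := by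
        rw [map_sub, map_one]
        rfl
      rw [h2, ← map_pow, hx, map_zero]
    have h2 := congrArg (fun T : Module.End K (TensorProduct F K V) => T w) h1
    simp only [pow_two, Module.End.mul_apply, LinearMap.sub_apply, Module.End.one_apply,
      LinearMap.zero_apply] at h2
    exact sub_eq_zero.mp h2
  obtain ⟨g, hg⟩ : ∃ g : Γ, ¬ ∃ k : ℕ, g ^ p ^ k = 1 := by
    by_contra hc
    push Not at hc
    exact hnp hc
  have hg' : ¬ ∃ k : ℕ, ρ' g ^ p ^ k = 1 := by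
    rintro ⟨j, hj⟩
    apply hg
    refine ⟨j, hρ' ?_⟩
    rw [map_pow, hj, map_one]
  obtain ⟨φ, -, hφa, hφb, h4⟩ := Cfsg.Agent.PLocal.TwoQuad.exists_hom_sl_two (p := p) t s hgen
    (orderOf (t * s)) (orderOf_pos _).ne' (IsAlgClosed.splits _) ρ' (hq t ht) (hq s hs)
    (by rw [← map_pow, pow_orderOf_eq_one, map_one]) g hg'
  have hpow : ∀ x : Matrix.SpecialLinearGroup (Fin 2) K, ((x : Matrix (Fin 2) (Fin 2) K) - 1) ^ 2 = 0 →
      x ^ p = 1 := by
    intro x hx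
    have h2 : ((x : Matrix (Fin 2) (Fin 2) K) - 1) ^ p = 0 :=
      pow_eq_zero_of_le (Fact.out : p.Prime).two_le hx
    rw [sub_pow_char_of_commute (p := p) (Commute.one_right _), one_pow, sub_eq_zero] at h2
    exact Subtype.ext h2
  have hgenL : Subgroup.closure {x : φ.range | ∃ n : ℕ, x ^ p ^ n = 1} = ⊤ := by
    rw [eq_top_iff]
    have h1 : (⊤ : Subgroup φ.range) = (⊤ : Subgroup Γ).map φ.rangeRestrict := by
      rw [← MonoidHom.range_eq_map, eq_comm, MonoidHom.range_eq_top]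
      exact φ.rangeRestrict_surjective
    rw [h1, ← hgen, MonoidHom.map_closure, Subgroup.closure_le, Set.image_pair]
    apply subset_trans _ Subgroup.subset_closure
    rintro x (rfl | rfl)
    · exact ⟨1, by rw [pow_one]; exact Subtype.ext (hpow _ hφa)⟩
    · exact ⟨1, by rw [pow_one]; exact Subtype.ext (hpow _ hφb)⟩
  have hfin : Finite φ.range := Finite.of_surjective _ φ.rangeRestrict_surjective
  have hodd : ¬ 2 ∣ Nat.card Γ := by
    intro hd
    obtain ⟨x, hx⟩ := exists_prime_orderOf_dvd_card' 2 hd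
    refine hcon x ?_ ?_
    · rintro rfl
      rw [orderOf_one] at hx
      omega
    · rw [← pow_two, ← hx, pow_orderOf_eq_one]
  have T : Sylow 2 φ.range := default
  have hTbot : ∀ x ∈ T, x = 1 := by
    intro x hx
    obtain ⟨k, hk⟩ := T.isPGroup' ⟨x, hx⟩
    have hk' : x ^ 2 ^ k = 1 := congrArg Subtype.val hk
    have h5 : orderOf x ∣ 2 ^ k := orderOf_dvd_of_pow_eq_one hk'
    have h6 : orderOf x ∣ Nat.card Γ :=
      (orderOf_dvd_natCard x).trans (Subgroup.card_range_dvd φ)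
    have h7 : Nat.Coprime (2 ^ k) (Nat.card Γ) :=
      Nat.Coprime.pow_left _ ((Nat.Prime.coprime_iff_not_dvd Nat.prime_two).2 hodd)
    have h8 : orderOf x = 1 := Nat.eq_one_of_dvd_coprimes h7 h5 h6
    exact orderOf_eq_one_iff.1 h8
  have hL : IsPGroup p φ.range := by
    refine Cfsg.Agent.PLocal.SLTwoSylow.isPGroup_of_sylow_two_comm (k := K) hp2 φ.range.subtype
      φ.range.subtype_injective hgenL T ?_
    intro x hx y hy
    rw [hTbot x hx, hTbot y hy]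
  apply h4
  obtain ⟨j, hj⟩ := hL ⟨φ g, ⟨g, rfl⟩⟩
  exact ⟨j, congrArg Subtype.val hj⟩

/-- **Two quadratic elements** `t`, `s` of a finite linear group in odd characteristic `p` such that `⟨t, s⟩` is
not a `p`-group: `⟨t, s⟩` contains an involution commuting with `t` and `s`. -/
theorem exists_involution {p : ℕ} [hp : Fact p.Prime] (hp2 : p ≠ 2) [CharP F p] [FiniteDimensional F V]
    {Γ : Type*} [Group Γ] [Finite Γ] (ρ : Γ →* Module.End F V) (hρ : Function.Injective ρ) {t s : Γ}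
    (ht : (ρ t - 1) ^ 2 = 0) (hs : (ρ s - 1) ^ 2 = 0)
    (hnp : ¬ IsPGroup p (Subgroup.closure ({t, s} : Set Γ))) :
    ∃ j ∈ Subgroup.closure ({t, s} : Set Γ), j ≠ 1 ∧ j * j = 1 ∧ j * t = t * j ∧ j * s = s * j := by
  have htL : t ∈ Subgroup.closure ({t, s} : Set Γ) := Subgroup.subset_closure (by simp)
  have hsL : s ∈ Subgroup.closure ({t, s} : Set Γ) := Subgroup.subset_closure (by simp)
  have hgen : Subgroup.closure ({⟨t, htL⟩, ⟨s, hsL⟩} : Set (Subgroup.closure ({t, s} : Set Γ))) = ⊤ := by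
    apply Subgroup.map_injective (Subgroup.closure ({t, s} : Set Γ)).subtype_injective
    rw [MonoidHom.map_closure, Set.image_pair, ← MonoidHom.range_eq_map, Subgroup.range_subtype]
    rfl
  obtain ⟨j, hj1, hjj⟩ := exists_sq hp2 (ρ.comp (Subgroup.closure ({t, s} : Set Γ)).subtype)
    (hρ.comp (Subgroup.subtype_injective _)) (t := ⟨t, htL⟩) (s := ⟨s, hsL⟩) ht hs hgen hnp
  have h2 : (2 : F) ≠ 0 := by
    intro h
    have h3 : p ∣ 2 := (CharP.cast_eq_zero_iff F p 2).1 (by exact_mod_cast h)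
    exact hp2 ((Nat.prime_dvd_prime_iff_eq hp.out Nat.prime_two).1 h3)
  have hjj' : (j : Γ) * j = 1 := congrArg Subtype.val hjj
  obtain ⟨h3, h4⟩ := commute_of_sq h2 ρ ht hs j.2 hjj'
  refine ⟨j, j.2, fun h => hj1 (Subtype.ext h), hjj', hρ ?_, hρ ?_⟩
  · rw [map_mul, map_mul, h3]
  · rw [map_mul, map_mul, h4]

end Group

end Cfsg.Agent.H879.QuadPair
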