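import Cfsg.Agent.H879.UnitSymp

/-!
Overgroups of the unitary group in the symplectic group: the alternative.
-/

set_option autoImplicit false
set_option linter.unusedSectionVars false
set_option linter.unusedSimpArgs false

namespace Cfsg.Agent.H879.UnitSymp

open Module

variable {F V : Type*} [Field F] [AddCommGroup V] [Module F V]
  {f : V →ₗ[F] V →ₗ[F] F} {κ : V →ₗ[F] V} {d : F} {M : Subgroup (V ≃ₗ[F] V)}

/-- The `X` function. -/
def XX (f : V →ₗ[F] V →ₗ[F] F) (a A : V) (δ p : F) (x : V) : V :=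
  x + (p * δ * f x A) • A - (p * f x a) • a

/-- The `Y` function. -/
def YY (f : V →ₗ[F] V →ₗ[F] F) (u B : V) (d p : F) (x : V) : V :=
  x + (p * f x u) • u - (p * d * f x B) • B

/-- Elements of the Heisenberg group of `b`. -/
def om (f : V →ₗ[F] V →ₗ[F] F) (b p : V) (e : F) (x : V) : V :=
  x + f x b • p + f x p • b + (e * f x b) • b

section Formulas

variable (alt : ∀ x, f x x = 0) (skew : ∀ x y, f x y = - f y x)
include alt skew

theorem rho_formula {a u A B : V} (δ d : F) (h1 : f a u = 1) (h2 : f A a = 0) (h3 : f A u = 0)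
    (h4 : f B a = 0) (h5 : f B u = 0) (h6 : f B A = 0) (x : V) :
    XX f a A δ 1 (YY f u B d 1 (XX f a A δ (-1) (YY f u B d (-1) x))) = rho f a u x := by
  have g1 : f u a = -1 := by rw [skew, h1]
  have g2 : f a A = 0 := by rw [skew, h2, neg_zero]
  have g3 : f u A = 0 := by rw [skew, h3, neg_zero]
  have g4 : f a B = 0 := by rw [skew, h4, neg_zero]
  have g5 : f u B = 0 := by rw [skew, h5, neg_zero]
  have g6 : f A B = 0 := by rw [skew, h6, neg_zero]
  unfold XX YY rho
  simp only [map_add, map_sub, map_smul, map_neg, LinearMap.add_apply, LinearMap.sub_apply,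
    LinearMap.smul_apply, LinearMap.neg_apply, smul_eq_mul, h1, h2, h3, h4, h5, h6, g1, g2, g3, g4,
    g5, g6, alt]
  module

theorem rho_rhoi {a u : V} (h1 : f a u = 1) (x : V) : rho f a u (rhoi f a u x) = x := by
  have g1 : f u a = -1 := by rw [skew, h1]
  unfold rho rhoi
  simp only [map_add, map_sub, map_smul, LinearMap.add_apply, LinearMap.sub_apply,
    LinearMap.smul_apply, smul_eq_mul, h1, g1, alt]
  module

theorem om_formula {a u b : V} (h1 : f a u = 1) (h2 : f a b = 0) (h3 : f u b = 0) (x : V) :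
    rho f a (u + b) (rhoi f a u x) = om f b ((2 : F) • a + u) 1 x := by
  have g1 : f u a = -1 := by rw [skew, h1]
  have g2 : f b a = 0 := by rw [skew, h2, neg_zero]
  have g3 : f b u = 0 := by rw [skew, h3, neg_zero]
  unfold rho rhoi om
  simp only [map_add, map_sub, map_smul, LinearMap.add_apply, LinearMap.sub_apply,
    LinearMap.smul_apply, smul_eq_mul, h1, h2, h3, g1, g2, g3, alt]
  module

theorem om_om {b p p' : V} (e e' : F) (h1 : f b p = 0) (h2 : f b p' = 0) (x : V) :
    om f b p e (om f b p' e' x) = om f b (p + p') (e + e' + f p' p) x := by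
  have g1 : f p b = 0 := by rw [skew, h1, neg_zero]
  have g2 : f p' b = 0 := by rw [skew, h2, neg_zero]
  unfold om
  simp only [map_add, map_sub, map_smul, LinearMap.add_apply, LinearMap.sub_apply,
    LinearMap.smul_apply, smul_eq_mul, h1, h2, g1, g2, alt]
  module

end Formulas

theorem om_zero (b : V) (e : F) (x : V) : om f b 0 e x = tr f b e x := by
  unfold om tr
  simp

namespace Hyp

variable (h : Hyp f κ d M)
include h

/-- Conjugation of `rho`. -/
theorem rho_conj {a u : V} (hr : Has M (rho f a u)) {g : V ≃ₗ[F] V} (hg : g ∈ M) :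
    Has M (rho f (g a) (g u)) := by
  refine (hr.conj hg).congr fun x => ?_
  unfold rho
  simp only [map_add, map_smul, apply_inv_apply, h.pres_inv hg]

theorem tr_conj {y : V} {e : F} (hr : Has M (tr f y e)) {g : V ≃ₗ[F] V} (hg : g ∈ M) :
    Has M (tr f (g y) e) := by
  refine (hr.conj hg).congr fun x => ?_
  unfold tr
  simp only [map_add, map_smul, apply_inv_apply, h.pres_inv hg]

theorem tr_add {y : V} {e e' : F} (h1 : Has M (tr f y e)) (h2 : Has M (tr f y e')) :
    Has M (tr f y (e + e')) := by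
  refine (h1.comp h2).congr fun x => ?_
  unfold tr
  simp only [map_add, map_smul, LinearMap.add_apply, LinearMap.smul_apply, smul_eq_mul, h.alt]
  module

/-- From `rho f a u` and `rho f a (u + b)` to a transvection. -/
theorem tr_of_rho {a u b : V} (h1 : f a u = 1) (h2 : f a b = 0) (h3 : f u b = 0)
    (hr : Has M (rho f a u)) (hr' : Has M (rho f a (u + b))) : Has M (tr f b 2) := by
  have g1 : f u a = -1 := by rw [h.skew, h1]
  have g2 : f b a = 0 := by rw [h.skew, h2, neg_zero]
  have g3 : f b u = 0 := by rw [h.skew, h3, neg_zero]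
  have hri : Has M (rhoi f a u) := hr.inv (rho_rhoi h.alt h.skew h1)
  have hom : Has M (om f b ((2 : F) • a + u) 1) :=
    (hr'.comp hri).congr (om_formula h.alt h.skew h1 h2 h3)
  -- the conjugate by rho
  obtain ⟨t, ht, hte⟩ := hr
  have ta : t a = (3 : F) • a + u := by
    rw [hte, rho, h1, h.alt]
    module
  have tu : t u = -a := by
    rw [hte, rho, h.alt, g1]
    module
  have tb : t b = b := by
    rw [hte, rho, g2, g3]
    module
  have hom' : Has M (om f b ((5 : F) • a + (2 : F) • u) 1) := by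
    refine (hom.conj ht).congr fun x => ?_
    unfold om
    simp only [map_add, map_smul, apply_inv_apply, h.pres_inv ht, ta, tu, tb, LinearMap.add_apply,
      LinearMap.smul_apply, map_neg]
    module
  have p1 : f b ((2 : F) • a + u) = 0 := by rw [map_add, map_smul, g2, g3]; simp
  have p2 : f b ((5 : F) • a + (2 : F) • u) = 0 := by
    rw [map_add, map_smul, map_smul, g2, g3]; simp
  have hprod := (hom.comp hom').congr (om_om h.alt h.skew 1 1 p1 p2)
  have hprod' := (hom'.comp hom).congr (om_om h.alt h.skew 1 1 p2 p1)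
  have v1 : f ((5 : F) • a + (2 : F) • u) ((2 : F) • a + u) = 1 := by
    simp only [map_add, map_smul, LinearMap.add_apply, LinearMap.smul_apply, h1, g1, h.alt,
      smul_eq_mul]
    ring
  have v2 : f ((2 : F) • a + u) ((5 : F) • a + (2 : F) • u) = -1 := by
    rw [h.skew, v1]
  rw [v1] at hprod
  rw [v2, add_comm ((5 : F) • a + (2 : F) • u)] at hprod'
  -- the quotient
  have p3 : f b ((2 : F) • a + u + ((5 : F) • a + (2 : F) • u)) = 0 := by
    rw [map_add, p1, p2, add_zero]
  have p4 : f b (-((2 : F) • a + u + ((5 : F) • a + (2 : F) • u))) = 0 := by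
    rw [map_neg, p3, neg_zero]
  have hinv : Has M (om f b (-((2 : F) • a + u + ((5 : F) • a + (2 : F) • u))) (-(1 + 1 + -1))) := by
    refine hprod'.inv fun x => ?_
    rw [om_om h.alt h.skew _ _ p3 p4, map_neg, LinearMap.neg_apply, h.alt, add_neg_cancel, neg_zero,
      add_zero, add_neg_cancel, om_zero, tr, zero_mul, zero_smul, add_zero]
  refine (hprod.comp hinv).congr fun x => ?_
  rw [om_om h.alt h.skew _ _ p3 p4, map_neg, LinearMap.neg_apply, h.alt, add_neg_cancel, neg_zero,
      add_zero, om_zero]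
  congr 1
  ring

/-- The configuration: `rho` is in `M`. -/
theorem has_rho {g : V ≃ₗ[F] V} (hg : g ∈ M) {v a : V} (hv : f (κ v) v = 0)
    (ha : f (κ a) a = 0) (h0 : f (g v) a = 0) (h1 : f (κ (g v)) a = 0)
    (h2 : f a (g (κ v)) = 1) (h3 : f (κ a) (g (κ v)) = 0) : Has M (rho f a (g (κ v))) := by
  have hd := h.d_ne
  have hX : ∀ p : F, Has M (XX f a (κ a) d⁻¹ p) := by
    intro p
    refine (h.tv a (p * d⁻¹) ha).congr fun x => ?_
    unfold ut XX
    rw [mul_assoc p d⁻¹ d, inv_mul_cancel₀ hd, mul_one]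
  have hY : ∀ p : F, Has M (YY f (g (κ v)) (g v) d p) := by
    intro p
    refine ((h.tv v p hv).conj hg).congr fun x => ?_
    unfold ut YY
    rw [map_sub, map_add, map_smul, map_smul, apply_inv_apply, h.pres_inv hg, h.pres_inv hg]
  have h5 : f (g v) (g (κ v)) = 0 := by
    rw [h.pres g hg, h.skew, hv, neg_zero]
  have h6 : f (g v) (κ a) = 0 := by
    have := h.adj (g v) a
    rw [h1] at this
    exact neg_eq_zero.1 this.symm
  exact ((hX 1).comp ((hY 1).comp ((hX (-1)).comp (hY (-1))))).congr
    (rho_formula h.alt h.skew d⁻¹ d h2 ha h3 h0 h5 h6)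

/-- An isotropic vector with all its transvections in `M`. -/
theorem exists_first {a u : V} (ha : f (κ a) a = 0) (h1 : f a u = 1) (h2 : f (κ a) u = 0)
    (hr : Has M (rho f a u)) : ∃ y, y ≠ 0 ∧ f (κ y) y = 0 ∧ ∀ e : F, Has M (tr f y e) := by
  have := h.finite
  have hd := h.d_ne
  have g1 : f u a = -1 := by rw [h.skew, h1]
  have haκ : f a (κ a) = 0 := by rw [h.skew, ha, neg_zero]
  have g2 : f u (κ a) = 0 := by rw [h.skew, h2, neg_zero]
  -- a vector orthogonal to everything
  obtain ⟨y, hy0, hqy, y1, y2, y3, y4⟩ : ∃ y, y ≠ 0 ∧ f (κ y) y = 0 ∧ f a y = 0 ∧ f (κ a) y = 0 ∧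
      f u y = 0 ∧ f (κ u) y = 0 := by
    let L : V →ₗ[F] (Fin 4 → F) := LinearMap.pi ![f a, f (κ a), f u, f (κ u)]
    have hker : LinearMap.ker L ≠ ⊥ := by
      apply LinearMap.ker_ne_bot_of_finrank_lt
      have := h.dim
      simp
      omega
    obtain ⟨z, hz, hz0⟩ := (LinearMap.ker L).ne_bot_iff.1 hker
    have e0 : f a z = 0 := congrFun (LinearMap.mem_ker.1 hz) 0
    have e1 : f (κ a) z = 0 := congrFun (LinearMap.mem_ker.1 hz) 1
    have e2 : f u z = 0 := congrFun (LinearMap.mem_ker.1 hz) 2
    have e3 : f (κ u) z = 0 := congrFun (LinearMap.mem_ker.1 hz) 3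
    by_cases hq : f (κ z) z = 0
    · exact ⟨z, hz0, hq, e0, e1, e2, e3⟩
    · obtain ⟨y, c0, c1, c2, c3, c4, c5⟩ := h.exists_iso a u z
      refine ⟨y, ?_, c0, by rw [c1, e0], by rw [c2, e1], by rw [c3, e2], by rw [c4, e3]⟩
      rintro rfl
      rw [map_zero] at c5
      exact hq c5.symm
  refine ⟨y, hy0, hqy, ?_⟩
  have y1' : f y a = 0 := by rw [h.skew, y1, neg_zero]
  have y3' : f y u = 0 := by rw [h.skew, y3, neg_zero]
  have y2' : f y (κ a) = 0 := by rw [h.skew, y2, neg_zero]
  have y5 : f a (κ y) = 0 := by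
    have := h.adj a y
    rw [y2] at this
    exact neg_eq_zero.1 this.symm
  have y6 : f u (κ y) = 0 := by
    have := h.adj u y
    rw [y4] at this
    exact neg_eq_zero.1 this.symm
  -- the element mapping u to u + s y
  have hmove : ∀ s : F, ∃ t ∈ M, t a = a ∧ t u = u + s • y := by
    intro s
    have hq1 : f (κ (a + y)) (a + y) = 0 := by
      rw [h.q_add, ha, hqy, y2]; simp
    obtain ⟨t₁, ht₁, he₁⟩ := h.tv (a + y) (s / d) hq1
    obtain ⟨t₂, ht₂, he₂⟩ := h.tv a (-(s / d)) ha
    have e1 : t₂ a = a := by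
      rw [he₂, ut, haκ, h.alt]; simp
    have e2 : t₂ u = u - s • a := by
      rw [he₂, ut, g2, g1]
      have : -(s / d) * d * -1 = s := by field_simp
      rw [this]
      simp
    have e3 : t₁ a = a := by
      rw [he₁, ut, map_add, map_add, map_add, haκ, y5, h.alt, y1]; simp
    have e4 : t₁ u = u + s • (a + y) := by
      rw [he₁, ut, map_add, map_add, map_add, g2, y6, g1, y3]
      have : s / d * d * (-1 + 0) = -s := by field_simp; ring
      rw [this, add_zero, mul_zero, zero_smul, add_zero]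
      module
    refine ⟨t₁ * t₂, M.mul_mem ht₁ ht₂, ?_, ?_⟩
    · rw [LinearEquiv.mul_apply, e1, e3]
    · rw [LinearEquiv.mul_apply, e2, map_sub, map_smul, e3, e4]
      module
  have hsq : ∀ s : F, Has M (tr f y (2 * (s * s))) := by
    intro s
    obtain ⟨t, ht, ta, tu⟩ := hmove s
    have h4 := h.rho_conj hr ht
    rw [ta, tu] at h4
    have h5 := h.tr_of_rho h1 (by rw [map_smul, y1, smul_zero]) (by rw [map_smul, y3, smul_zero])
      hr h4
    refine h5.congr fun x => ?_
    unfold tr
    rw [map_smul, smul_eq_mul, smul_smul]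
    congr 2
    ring
  intro e
  obtain ⟨α, β, hαβ⟩ := h.sumsq (e / 2)
  have h4 := h.tr_add (hsq α) (hsq β)
  have h5 : 2 * (α * α) + 2 * (β * β) = e := by
    rw [← mul_add, hαβ, mul_div_cancel₀ _ h.two]
  rwa [h5] at h4

/-- All transvections are in `M`. -/
theorem all_of_first {y₀ : V} (h0 : y₀ ≠ 0) (hq : f (κ y₀) y₀ = 0)
    (ht : ∀ e : F, Has M (tr f y₀ e)) (y : V) (e : F) : Has M (tr f y e) := by
  have hiso : ∀ y : V, y ≠ 0 → f (κ y) y = 0 → ∀ e : F, Has M (tr f y e) := by
    intro y hy hqy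
    refine h.conn (A := fun y => ∀ e : F, Has M (tr f y e)) ?_ ht h0 hq hy hqy
    intro x z hx hx0 hqx hqz hxz hxz'
    have hq1 : f (κ (x - z)) (x - z) = 0 := by
      simp only [map_sub, LinearMap.sub_apply, hqx, hqz, hxz, h.symm z x]
      simp
    obtain ⟨t, ht, he⟩ := h.tv (x - z) (-(d * f x z)⁻¹) hq1
    have hxκ : f x (κ x) = 0 := by rw [h.skew, hqx, neg_zero]
    have hxκz : f x (κ z) = 0 := by
      have := h.adj x z
      rw [hxz] at this
      exact neg_eq_zero.1 this.symm
    have htx : t x = z := by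
      rw [he, ut, map_sub, map_sub, map_sub, hxκ, hxκz, h.alt]
      have hd := h.d_ne
      have : -(d * f x z)⁻¹ * d * (0 - f x z) = 1 := by field_simp; ring
      rw [this]
      simp
    intro e
    have := h.tr_conj (hx e) ht
    rwa [htx] at this
  by_cases hy : y = 0
  · subst hy
    refine has_id.congr fun x => ?_
    unfold tr
    rw [smul_zero, add_zero]
  by_cases hqy : f (κ y) y = 0
  · exact hiso y hy hqy e
  · -- y is a sum of two isotropic vectors
    obtain ⟨z₀, hz₀, hz₁⟩ := h.exists_dual_one hy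
    have hκz : f y (κ z₀) = 0 := by
      have := h.adj y z₀
      rw [hz₁] at this
      exact neg_eq_zero.1 this.symm
    have hκκ : f (κ y) (κ z₀) = - d := by rw [h.kk, hz₀, mul_one]
    obtain ⟨z, c0, c1, c2, -, -, -⟩ := h.exists_iso y y (z₀ + κ z₀)
    rw [map_add, hz₀, hκz, add_zero] at c1
    rw [map_add, hz₁, hκκ, zero_add] at c2
    have hd := h.d_ne
    have htwo := h.two
    set s := f (κ y) y / (2 * f (κ y) z) with hs
    have hden : 2 * f (κ y) z ≠ 0 := by
      rw [c2]; exact mul_ne_zero htwo (neg_ne_zero.2 hd)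
    have hq1 : f (κ (y - s • z)) (y - s • z) = 0 := by
      simp only [map_sub, map_smul, LinearMap.sub_apply, LinearMap.smul_apply, smul_eq_mul, c0,
        h.symm z y]
      have : s * (2 * f (κ y) z) = f (κ y) y := div_mul_cancel₀ _ hden
      linear_combination this - 2 * this
    have hz0 : z ≠ 0 := by
      rintro rfl
      rw [map_zero] at c1
      exact zero_ne_one c1
    have hfz : f (y - s • z) z = 1 := by
      simp only [map_sub, map_smul, LinearMap.sub_apply, LinearMap.smul_apply, smul_eq_mul, h.alt,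
        c1]
      ring
    have hne : y - s • z ≠ 0 := by
      intro h4
      rw [h4, map_zero, LinearMap.zero_apply] at hfz
      exact zero_ne_one hfz
    obtain ⟨t, ht, he⟩ := hiso z hz0 c0 s
    have h5 := h.tr_conj (hiso _ hne hq1 e) ht
    have h6 : t (y - s • z) = y := by
      rw [he, tr, hfz, mul_one, sub_add_cancel]
    rwa [h6] at h5

/-- The alternative. -/
theorem alternative : (∀ g ∈ M, ∃ α β : F, ∀ x, g (κ x) = α • g x + β • κ (g x)) ∨
    ∀ (y : V) (e : F), Has M (tr f y e) := by
  by_cases hcase : ∃ g ∈ M, ∃ v, v ≠ 0 ∧ f (κ v) v = 0 ∧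
      ∀ α β : F, g (κ v) ≠ α • g v + β • κ (g v)
  · right
    obtain ⟨g, hg, v, hv, hqv, hne⟩ := hcase
    obtain ⟨z₀, h1, h2, h3, h4⟩ := h.exists_dual hne
    obtain ⟨a, c0, c1, c2, c3, c4, -⟩ := h.exists_iso (g v) (g (κ v)) (-z₀)
    rw [map_neg, h1, neg_zero] at c1
    rw [map_neg, h2, neg_zero] at c2
    rw [map_neg, h3] at c3
    rw [map_neg, h4, neg_zero] at c4
    have c3' : f a (g (κ v)) = 1 := by rw [h.skew, c3, neg_neg]
    have c4' : f (κ a) (g (κ v)) = 0 := by rw [h.symm, c4]
    have hr := h.has_rho hg hqv c0 c1 c2 c3' c4'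
    obtain ⟨y, hy, hqy, hall⟩ := h.exists_first c0 c3' c4' hr
    exact h.all_of_first hy hqy hall
  · left
    push Not at hcase
    intro g hg
    have hiso : ∀ v, v ≠ 0 → f (κ v) v = 0 → ∃ a b : F, g⁻¹ (κ (g v)) = a • v + b • κ v := by
      intro v hv hqv
      obtain ⟨α, β, hαβ⟩ := hcase g hg v hv hqv
      have hβ : β ≠ 0 := by
        rintro rfl
        rw [zero_smul, add_zero, ← map_smul] at hαβ
        have h1 : κ v = α • v := g.injective hαβ
        have h2 := h.sq v
        rw [h1, map_smul, h1, smul_smul] at h2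
        have h3 : (α * α - d) • v = 0 := by rw [sub_smul, h2, sub_self]
        exact h.nsq α (sub_eq_zero.1 ((smul_eq_zero.1 h3).resolve_right hv))
      refine ⟨-(β⁻¹ * α), β⁻¹, ?_⟩
      have h1 : κ (g v) = β⁻¹ • (g (κ v) - α • g v) := by
        rw [hαβ, add_sub_cancel_left, smul_smul, inv_mul_cancel₀ hβ, one_smul]
      rw [h1, map_smul, map_sub, map_smul, inv_apply_apply, inv_apply_apply]
      module
    -- J x = g⁻¹ κ g x
    have hJ : ∀ x y, f (g⁻¹ (κ (g x))) y = - f x (g⁻¹ (κ (g y))) := by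
      intro x y
      rw [h.pres_inv hg, h.adj, ← h.pres_inv (M.inv_mem hg)]
      simp only [inv_inv]
    obtain ⟨v₀, hv₀, hqv₀⟩ : ∃ v₀ : V, v₀ ≠ 0 ∧ f (κ v₀) v₀ = 0 := by
      have := h.finite
      have hnt : Nontrivial V := by
        apply nontrivial_of_finrank_pos (R := F)
        have := h.dim
        omega
      obtain ⟨w, hw⟩ := exists_ne (0 : V)
      obtain ⟨z₀, e1, e2⟩ := h.exists_dual_one hw
      obtain ⟨z, c0, c1, -, -, -, -⟩ := h.exists_iso w w z₀
      refine ⟨z, ?_, c0⟩
      rintro rfl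
      rw [map_zero, e1] at c1
      exact zero_ne_one c1
    obtain ⟨a₀, b₀, hab⟩ := hiso v₀ hv₀ hqv₀
    have hall : ∀ v, v ≠ 0 → f (κ v) v = 0 → g⁻¹ (κ (g v)) = a₀ • v + b₀ • κ v := by
      intro v hv hqv
      refine h.conn (A := fun v => g⁻¹ (κ (g v)) = a₀ • v + b₀ • κ v) ?_ hab hv₀ hqv₀ hv hqv
      intro x z hx hx0 hqx hqz hxz hxz'
      have hz0 : z ≠ 0 := by rintro rfl; rw [map_zero] at hxz'; exact hxz' rfl
      obtain ⟨az, bz, hz⟩ := hiso z hz0 hqz
      have hqs : f (κ (x + z)) (x + z) = 0 := by rw [h.q_add, hqx, hqz, hxz]; simp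
      have hs0 : x + z ≠ 0 := by
        intro h4
        have h5 : f x (x + z) = 0 := by rw [h4, map_zero]
        rw [map_add, h.alt, zero_add] at h5
        exact hxz' h5
      obtain ⟨as, bs, hs⟩ := hiso (x + z) hs0 hqs
      rw [map_add, map_add, map_add, hx, hz] at hs
      have w1 : f x (κ x) = 0 := by rw [h.skew, hqx, neg_zero]
      have w2 : f z (κ z) = 0 := by rw [h.skew, hqz, neg_zero]
      have w3 : f x (κ z) = 0 := by
        have := h.adj x z
        rw [hxz] at this
        exact neg_eq_zero.1 this.symm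
      have w4 : f (κ z) x = 0 := by rw [h.symm, hxz]
      have w5 : f z x = - f x z := h.skew _ _
      have w6 : f (κ x) (κ z) = -(d * f x z) := h.kk _ _
      have w7 : f (κ z) (κ x) = d * f x z := by rw [h.kk, w5]; ring
      have w8 : f z (κ x) = 0 := by rw [h.skew, hxz, neg_zero]
      have hd := h.d_ne
      have t1 := congrArg (fun w => f w z) hs
      have t2 := congrArg (f x) hs
      have t3 := congrArg (fun w => f w (κ z)) hs
      have t4 := congrArg (f (κ x)) hs
      simp only [map_add, map_smul, LinearMap.add_apply, LinearMap.smul_apply, smul_eq_mul, h.alt,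
        w1, w2, w3, w4, w5, w6, w7, w8, hqx, hqz, hxz, mul_zero, add_zero, zero_add] at t1 t2 t3 t4
      have r1 : a₀ = as := mul_right_cancel₀ hxz' t1
      have r2 : az = as := mul_right_cancel₀ hxz' t2
      have hdz : -(d * f x z) ≠ 0 := neg_ne_zero.2 (mul_ne_zero hd hxz')
      have r3 : b₀ = bs := mul_right_cancel₀ hdz t3
      have r4 : bz = bs := mul_right_cancel₀ hdz t4
      change g⁻¹ (κ (g z)) = _
      rw [hz, r1, r2, r3, r4]
    have hall' : ∀ x, g⁻¹ (κ (g x)) = a₀ • x + b₀ • κ x := by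
      intro x
      by_cases hx : x = 0
      · subst hx; simp
      by_cases hqx : f (κ x) x = 0
      · exact hall x hx hqx
      · obtain ⟨z₀, hz₀, hz₁⟩ := h.exists_dual_one hx
        have hκz : f x (κ z₀) = 0 := by
          have := h.adj x z₀
          rw [hz₁] at this
          exact neg_eq_zero.1 this.symm
        have hκκ : f (κ x) (κ z₀) = - d := by rw [h.kk, hz₀, mul_one]
        obtain ⟨z, c0, c1, c2, -, -, -⟩ := h.exists_iso x x (z₀ + κ z₀)
        rw [map_add, hz₀, hκz, add_zero] at c1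
        rw [map_add, hz₁, hκκ, zero_add] at c2
        have hd := h.d_ne
        have htwo := h.two
        set s := f (κ x) x / (2 * f (κ x) z) with hs
        have hden : 2 * f (κ x) z ≠ 0 := by
          rw [c2]; exact mul_ne_zero htwo (neg_ne_zero.2 hd)
        have hq1 : f (κ (x - s • z)) (x - s • z) = 0 := by
          simp only [map_sub, map_smul, LinearMap.sub_apply, LinearMap.smul_apply, smul_eq_mul, c0,
            h.symm z x]
          have : s * (2 * f (κ x) z) = f (κ x) x := div_mul_cancel₀ _ hden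
          linear_combination this - 2 * this
        have hz0 : z ≠ 0 := by
          rintro rfl
          rw [map_zero] at c1
          exact zero_ne_one c1
        have hfz : f (x - s • z) z = 1 := by
          simp only [map_sub, map_smul, LinearMap.sub_apply, LinearMap.smul_apply, smul_eq_mul,
            h.alt, c1]
          ring
        have hne : x - s • z ≠ 0 := by
          intro h4
          rw [h4, map_zero, LinearMap.zero_apply] at hfz
          exact zero_ne_one hfz
        have k1 := hall _ hne hq1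
        have k2 := hall _ hz0 c0
        have k3 : x = (x - s • z) + s • z := by rw [sub_add_cancel]
        rw [k3, map_add, map_add, map_add, k1, map_smul, map_smul, map_smul, k2]
        simp only [map_add, map_sub, map_smul]
        module
    have hb₀ : b₀ ≠ 0 := by
      rintro rfl
      have h1 := hall' (g⁻¹ (κ v₀))
      have h2 := hall' (g⁻¹ v₀)
      rw [zero_smul, add_zero, apply_inv_apply] at h1 h2
      have h3 : κ v₀ = a₀ • v₀ := by
        have := congrArg g h2
        rwa [apply_inv_apply, map_smul, apply_inv_apply] at this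
      have h4 := h.sq v₀
      rw [h3, map_smul, h3, smul_smul] at h4
      have h5 : (a₀ * a₀ - d) • v₀ = 0 := by rw [sub_smul, h4, sub_self]
      exact h.nsq a₀ (sub_eq_zero.1 ((smul_eq_zero.1 h5).resolve_right hv₀))
    refine ⟨-(b₀⁻¹ * a₀), b₀⁻¹, fun x => ?_⟩
    have h1 := congrArg g (hall' x)
    rw [apply_inv_apply, map_add, map_smul, map_smul] at h1
    rw [h1]
    have : b₀⁻¹ * b₀ = 1 := inv_mul_cancel₀ hb₀
    calc g (κ x) = (b₀⁻¹ * b₀) • g (κ x) := by rw [this, one_smul]
      _ = _ := by module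

end Hyp

end Cfsg.Agent.H879.UnitSymp
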