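import Cfsg.Prelude.Def_GeometricClasses
import Cfsg.Agent.ClassicalGeometry.SympBasic
import Cfsg.Agent.S0765

/-!
Functions induced by elements of a subgroup of `V ≃ₗ[F] V`, the passage from `GL ι F`, and the
generation of `spGL m F` by transvections.
-/

set_option autoImplicit false
set_option linter.unusedSectionVars false

namespace Cfsg.Agent.H879

open Matrix Cfsg.Agent.ClassicalGeometry.SympBasic

section Has

variable {F V : Type*} [Field F] [AddCommGroup V] [Module F V]

/-- The function `T` is induced by an element of `M`. -/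
def Has (M : Subgroup (V ≃ₗ[F] V)) (T : V → V) : Prop := ∃ g ∈ M, ∀ x, g x = T x

variable {M : Subgroup (V ≃ₗ[F] V)}

theorem Has.congr {T T' : V → V} (h : Has M T) (h' : ∀ x, T x = T' x) : Has M T' := by
  obtain ⟨g, hg, he⟩ := h
  exact ⟨g, hg, fun x => by rw [he, h']⟩

theorem has_id : Has M (fun x => x) := ⟨1, M.one_mem, fun _ => rfl⟩

theorem has_of_mem {g : V ≃ₗ[F] V} (hg : g ∈ M) : Has M (fun x => g x) := ⟨g, hg, fun _ => rfl⟩

theorem Has.comp {T T' : V → V} (h : Has M T) (h' : Has M T') : Has M (fun x => T (T' x)) := by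
  obtain ⟨g, hg, he⟩ := h
  obtain ⟨g', hg', he'⟩ := h'
  exact ⟨g * g', M.mul_mem hg hg', fun x => by rw [LinearEquiv.mul_apply, he', he]⟩

/-- An inverse function of a function induced by `M` is induced by `M`. -/
theorem Has.inv {T T' : V → V} (h : Has M T) (h' : ∀ x, T (T' x) = x) : Has M T' := by
  obtain ⟨g, hg, he⟩ := h
  refine ⟨g⁻¹, M.inv_mem hg, fun x => ?_⟩
  have h1 : g (T' x) = x := by rw [he, h']
  have h2 : g⁻¹ (g (T' x)) = T' x := by
    rw [← LinearEquiv.mul_apply, inv_mul_cancel, LinearEquiv.coe_one, id_eq]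
  rw [← h2, h1]

theorem inv_apply_apply (g : V ≃ₗ[F] V) (x : V) : g⁻¹ (g x) = x := by
  rw [← LinearEquiv.mul_apply, inv_mul_cancel, LinearEquiv.coe_one, id_eq]

theorem apply_inv_apply (g : V ≃ₗ[F] V) (x : V) : g (g⁻¹ x) = x := by
  rw [← LinearEquiv.mul_apply, mul_inv_cancel, LinearEquiv.coe_one, id_eq]

theorem Has.conj {T : V → V} (h : Has M T) {g : V ≃ₗ[F] V} (hg : g ∈ M) :
    Has M (fun x => g (T (g⁻¹ x))) :=
  (has_of_mem hg).comp (h.comp (has_of_mem (M.inv_mem hg)))

end Has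

/-! ### Passage from `GL ι F` -/

section Bridge

variable {ι : Type} [Fintype ι] [DecidableEq ι] {F : Type*} [Field F]

/-- `GL ι F` as the group of linear automorphisms of `ι → F`. -/
noncomputable def toEq : GL ι F ≃* ((ι → F) ≃ₗ[F] (ι → F)) :=
  (Matrix.GeneralLinearGroup.toLin (n := ι) (R := F)).trans
    (LinearMap.GeneralLinearGroup.generalLinearEquiv F (ι → F))

theorem toEq_apply (g : GL ι F) (x : ι → F) : toEq g x = (g : Matrix ι ι F) *ᵥ x := rfl

theorem has_map_iff (M : Subgroup (GL ι F)) (T : (ι → F) → (ι → F)) :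
    Has (M.map toEq.toMonoidHom) T ↔ ∃ g ∈ M, ∀ x, (g : Matrix ι ι F) *ᵥ x = T x := by
  constructor
  · rintro ⟨_, ⟨g, hg, rfl⟩, he⟩
    exact ⟨g, hg, he⟩
  · rintro ⟨g, hg, he⟩
    exact ⟨_, ⟨g, hg, rfl⟩, he⟩

theorem mem_of_mulVec {M : Subgroup (GL ι F)} {g g' : GL ι F} (hg : g ∈ M)
    (h : ∀ x, (g : Matrix ι ι F) *ᵥ x = (g' : Matrix ι ι F) *ᵥ x) : g' ∈ M := by
  have : g = g' := Units.ext (Matrix.mulVec_injective (funext h))
  rwa [← this]

end Bridge

/-! ### Symplectic transvections -/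

section Symp

variable {m : ℕ} {F : Type*} [Field F]

/-- `spGL m F` is contained in every subgroup with all symplectic transvections. -/
theorem spGL_le_of_has {M : Subgroup (GL (Fin m ⊕ Fin m) F)}
    (h : ∀ (v : Fin m ⊕ Fin m → F) (c : F),
      Has (M.map toEq.toMonoidHom) (fun x => x + (c * sympForm m F x v) • v)) :
    spGL m F ≤ M := by
  intro g hg
  have hgs : (g : Matrix (Fin m ⊕ Fin m) (Fin m ⊕ Fin m) F) ∈ Matrix.symplecticGroup (Fin m) F := by
    rw [mem_symplecticGroup_iff]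
    exact hg
  have key : ∀ A : Matrix.symplecticGroup (Fin m) F, ∃ g' ∈ M,
      (g' : Matrix (Fin m ⊕ Fin m) (Fin m ⊕ Fin m) F) = A := by
    intro A
    have hA : A ∈ Subgroup.closure {A : Matrix.symplecticGroup (Fin m) F |
        ∃ (w : Fin m ⊕ Fin m → F) (c : F),
          (A : Matrix (Fin m ⊕ Fin m) (Fin m ⊕ Fin m) F) = Cfsg.sympTransvection m w c} := by
      rw [Cfsg.Agent.S0765.result]
      trivial
    induction hA using Subgroup.closure_induction with
    | mem x hx =>
      obtain ⟨w, c, hx⟩ := hx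
      obtain ⟨g', hg', he⟩ := (has_map_iff M _).1 (h w c)
      refine ⟨g', hg', ?_⟩
      rw [hx]
      apply Matrix.mulVec_injective
      funext y
      rw [he, sympTransvection_mulVec]
    | one => exact ⟨1, M.one_mem, rfl⟩
    | mul x y _ _ hx hy =>
      obtain ⟨a, ha, hax⟩ := hx
      obtain ⟨b, hb, hby⟩ := hy
      exact ⟨a * b, M.mul_mem ha hb, by rw [Units.val_mul, hax, hby]; rfl⟩
    | inv x _ hx =>
      obtain ⟨a, ha, hax⟩ := hx
      refine ⟨a⁻¹, M.inv_mem ha, ?_⟩
      have h1 : (a : Matrix (Fin m ⊕ Fin m) (Fin m ⊕ Fin m) F) *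
          ((x⁻¹ : Matrix.symplecticGroup (Fin m) F) : Matrix _ _ F) = 1 := by
        rw [hax]
        have := congrArg Subtype.val (mul_inv_cancel x)
        exact this
      have h2 := congrArg (fun B => ((a⁻¹ : GL (Fin m ⊕ Fin m) F) : Matrix _ _ F) * B) h1
      simp only [← mul_assoc, ← Units.val_mul, inv_mul_cancel, Units.val_one, one_mul,
        mul_one] at h2
      exact h2.symm
  obtain ⟨g', hg', he⟩ := key ⟨g, hgs⟩
  have : g' = g := Units.ext he
  rwa [← this]

end Symp

end Cfsg.Agent.H879
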