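import Cfsg.Agent.H879.Basic

/-!
Overgroups of `Sp(V, φ)`, `V` a vector space over an extension field `K` of prime degree of the finite
field `F`, in the symplectic group of `ℓ ∘ φ`, `ℓ : K → F` linear: they consist of `K`-semilinear maps
or contain all the `F`-transvections.
-/

set_option autoImplicit false
set_option linter.unusedSectionVars false
set_option linter.unusedSimpArgs false

namespace Cfsg.Agent.H879.ExtField

open Module

variable {F K V : Type*} [Field F] [Field K] [Algebra F K] [AddCommGroup V]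
  [Module F V] [Module K V] [IsScalarTower F K V]

/-- The transvection over `K`. -/
def kt (φ : V →ₗ[K] V →ₗ[K] K) (v : V) (l : K) (x : V) : V := x + (l * φ x v) • v

/-- `M` is a group of isometries of `ℓ ∘ φ` with all the `K`-transvections of `φ`. -/
structure Hyp (φ : V →ₗ[K] V →ₗ[K] K) (ℓ : K →ₗ[F] F) (M : Subgroup (V ≃ₗ[F] V)) : Prop where
  alt : ∀ x, φ x x = 0
  ndeg : ∀ x, x ≠ 0 → ∃ y, φ x y ≠ 0
  lne : ℓ ≠ 0
  pres : ∀ g ∈ M, ∀ x y, ℓ (φ (g x) (g y)) = ℓ (φ x y)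
  tv : ∀ v l, Has M (kt φ v l)

variable {φ : V →ₗ[K] V →ₗ[K] K} {ℓ : K →ₗ[F] F} {M : Subgroup (V ≃ₗ[F] V)}

theorem ell_ext (hl : ℓ ≠ 0) {a b : K} (h : ∀ k, ℓ (k * a) = ℓ (k * b)) : a = b := by
  by_contra hab
  apply hl
  ext k
  have hab' : a - b ≠ 0 := sub_ne_zero.2 hab
  have h1 := h (k * (a - b)⁻¹)
  rw [← sub_eq_zero, ← map_sub, ← mul_sub, mul_assoc, inv_mul_cancel₀ hab', mul_one] at h1
  rw [h1, LinearMap.zero_apply]

theorem smul_alg (c : F) (k : K) : ℓ (k * algebraMap F K c) = c * ℓ k := by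
  rw [mul_comm, ← Algebra.smul_def, map_smul, smul_eq_mul]

namespace Hyp

variable (h : Hyp φ ℓ M)
include h

theorem skew (x y : V) : φ x y = - φ y x := by
  have := h.alt (x + y)
  simp only [map_add, LinearMap.add_apply, h.alt, zero_add, add_zero] at this
  exact eq_neg_of_add_eq_zero_right this

theorem ndeg' (x : V) (hx : x ≠ 0) : ∃ y, φ y x ≠ 0 := by
  obtain ⟨y, hy⟩ := h.ndeg x hx
  exact ⟨y, by rw [h.skew, neg_ne_zero]; exact hy⟩

theorem pres_inv {g : V ≃ₗ[F] V} (hg : g ∈ M) (x y : V) : ℓ (φ (g⁻¹ x) y) = ℓ (φ x (g y)) := by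
  have h1 := h.pres g hg (g⁻¹ x) y
  rw [apply_inv_apply] at h1
  exact h1.symm

theorem exists_ell (e : F) : ∃ k, ℓ k = e := by
  obtain ⟨k, hk⟩ : ∃ k, ℓ k ≠ 0 := by
    by_contra hc
    push Not at hc
    exact h.lne (LinearMap.ext hc)
  exact ⟨(e / ℓ k) • k, by rw [map_smul, smul_eq_mul, div_mul_cancel₀ _ hk]⟩

/-- Some vector is not orthogonal to two given ones. -/
theorem exists_common {x y : V} (hx : x ≠ 0) (hy : y ≠ 0) : ∃ z, φ x z ≠ 0 ∧ φ y z ≠ 0 := by
  obtain ⟨z₁, h1⟩ := h.ndeg x hx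
  obtain ⟨z₂, h2⟩ := h.ndeg y hy
  by_cases h3 : φ y z₁ = 0
  · by_cases h4 : φ x z₂ = 0
    · exact ⟨z₁ + z₂, by rw [map_add, h4, add_zero]; exact h1,
        by rw [map_add, h3, zero_add]; exact h2⟩
    · exact ⟨z₂, h4, h2⟩
  · exact ⟨z₁, h1, h3⟩

/-- Separation of two vectors. -/
theorem exists_sep {y z : V} (hz : ∀ k : K, z ≠ k • y) : ∃ a, φ a y = 0 ∧ φ a z ≠ 0 := by
  by_cases hy : y = 0
  · subst hy
    obtain ⟨a, ha⟩ := h.ndeg' z (by simpa using hz 0)
    exact ⟨a, by rw [map_zero], ha⟩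
  · obtain ⟨b, hb⟩ := h.ndeg' y hy
    by_contra hcon
    push Not at hcon
    have hne : z - ((φ b y)⁻¹ * φ b z) • y ≠ 0 := sub_ne_zero.2 (hz _)
    obtain ⟨a, ha⟩ := h.ndeg' _ hne
    apply ha
    have h1 := hcon (a - (φ a y * (φ b y)⁻¹) • b) (by
      rw [map_sub, LinearMap.sub_apply, map_smul, LinearMap.smul_apply, smul_eq_mul, mul_assoc,
        inv_mul_cancel₀ hb, mul_one, sub_self])
    rw [map_sub, LinearMap.sub_apply, map_smul, LinearMap.smul_apply, smul_eq_mul] at h1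
    rw [map_sub, map_smul, smul_eq_mul]
    rw [← h1]
    ring

/-! ### Transitivity -/

theorem kt_iso (v : V) (l : K) (x y : V) : φ (kt φ v l x) (kt φ v l y) = φ x y := by
  unfold kt
  simp only [map_add, LinearMap.add_apply, map_smul, LinearMap.smul_apply, smul_eq_mul, h.alt]
  rw [h.skew v y]
  ring

theorem move {x y : V} (hxy : φ x y ≠ 0) :
    ∃ t ∈ M, t x = y ∧ (∀ z, φ z (y - x) = 0 → t z = z) ∧ ∀ z w, φ (t z) (t w) = φ z w := by
  obtain ⟨t, ht, he⟩ := h.tv (y - x) (φ x y)⁻¹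
  refine ⟨t, ht, ?_, fun z hz => ?_, fun z w => ?_⟩
  · rw [he, kt, map_sub, h.alt, sub_zero, inv_mul_cancel₀ hxy, one_smul, add_sub_cancel]
  · rw [he, kt, hz, mul_zero, zero_smul, add_zero]
  · rw [he, he, h.kt_iso]

theorem trans {x y : V} (hx : x ≠ 0) (hy : y ≠ 0) :
    ∃ t ∈ M, t x = y ∧ ∀ z w, φ (t z) (t w) = φ z w := by
  obtain ⟨z, h1, h2⟩ := h.exists_common hx hy
  obtain ⟨t, ht, hx', -, hi⟩ := h.move h1
  obtain ⟨t', ht', hy', -, hi'⟩ := h.move (x := z) (y := y) (by rw [h.skew, neg_ne_zero]; exact h2)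
  exact ⟨t' * t, M.mul_mem ht' ht, by rw [LinearEquiv.mul_apply, hx', hy'], fun z w => by
    rw [LinearEquiv.mul_apply, LinearEquiv.mul_apply, hi', hi]⟩

theorem trans_fix {x y y' : V} (h1 : φ x y ≠ 0) (h2 : φ x y' = φ x y) :
    ∃ t ∈ M, t x = x ∧ t y = y' ∧ ∀ z w, φ (t z) (t w) = φ z w := by
  have key : ∀ y y' : V, φ x y ≠ 0 → φ x y' = φ x y → φ y y' ≠ 0 →
      ∃ t ∈ M, t x = x ∧ t y = y' ∧ ∀ z w, φ (t z) (t w) = φ z w := by
    intro y y' _ h2 h3
    obtain ⟨t, ht, hy, hf, hi⟩ := h.move h3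
    exact ⟨t, ht, hf x (by rw [map_sub, h2, sub_self]), hy, hi⟩
  by_cases h3 : φ y y' = 0
  · have h4 : φ y (y + x) ≠ 0 := by
      rw [map_add, h.alt, zero_add, h.skew, neg_ne_zero]; exact h1
    have h5 : φ x (y + x) = φ x y := by rw [map_add, h.alt, add_zero]
    obtain ⟨t, ht, hx, hy, hi⟩ := key y (y + x) h1 h5 h4
    obtain ⟨t', ht', hx', hy', hi'⟩ := key (y + x) y' (by rw [h5]; exact h1) (by rw [h5, h2]) (by
      rw [map_add, LinearMap.add_apply, h3, zero_add, h2]; exact h1)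
    exact ⟨t' * t, M.mul_mem ht' ht, by rw [LinearEquiv.mul_apply, hx, hx'],
      by rw [LinearEquiv.mul_apply, hy, hy'],
      fun z w => by rw [LinearEquiv.mul_apply, LinearEquiv.mul_apply, hi', hi]⟩
  · exact key y y' h1 h2 h3

theorem trans_pair {x y x' y' : V} (h1 : φ x y ≠ 0) (h2 : φ x' y' = φ x y) :
    ∃ t ∈ M, t x = x' ∧ t y = y' := by
  have hx : x ≠ 0 := by rintro rfl; simp at h1
  have hx' : x' ≠ 0 := by rintro rfl; rw [← h2] at h1; simp at h1
  obtain ⟨t, ht, hx1, hi⟩ := h.trans hx hx'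
  have h3 : φ x' (t y) = φ x y := by rw [← hx1, hi]
  obtain ⟨t', ht', h4, h5, -⟩ := h.trans_fix (x := x') (y := t y) (y' := y')
    (by rw [h3]; exact h1) (by rw [h2, h3])
  exact ⟨t' * t, M.mul_mem ht' ht, by rw [LinearEquiv.mul_apply, hx1, h4],
    by rw [LinearEquiv.mul_apply, h5]⟩

/-! ### The commutator -/

/-- The element `R` of `M`. -/
theorem has_R {g : V ≃ₗ[F] V} (hg : g ∈ M) {a v : V}
    (hth : ∀ k : K, φ a (g (k • v)) = algebraMap F K (ℓ k)) {l : K} (hl : ℓ l = 0) (m : K) :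
    Has M (fun x => x - ℓ (φ x (g (m • v))) • (l • a) - ℓ (φ x (l • a)) • g (m • v)
      + (ℓ m * ℓ (φ x (l • a))) • (l • a)) := by
  -- the coordinate functions
  have hp : ∀ k : K, φ (g⁻¹ (k • a)) v = algebraMap F K (ℓ k) := by
    intro k
    apply ell_ext h.lne
    intro k'
    have e1 : ℓ (k' * φ (g⁻¹ (k • a)) v) = ℓ (φ (g⁻¹ (k • a)) (k' • v)) := by
      rw [(φ _).map_smul, smul_eq_mul]
    rw [e1, h.pres_inv hg, φ.map_smul, LinearMap.smul_apply, hth, smul_eq_mul, smul_alg, smul_alg]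
    ring
  have hpg : ∀ k : K, φ (g⁻¹ (g (k • v))) v = 0 := by
    intro k
    rw [inv_apply_apply, φ.map_smul, LinearMap.smul_apply, h.alt, smul_zero]
  have hq : ∀ k : K, φ (g (k • v)) a = - algebraMap F K (ℓ k) := by
    intro k; rw [h.skew, hth]
  have hqa : ∀ k : K, φ (k • a) a = 0 := by
    intro k; rw [φ.map_smul, LinearMap.smul_apply, h.alt, smul_zero]
  have f1 : ∀ (x : V), ℓ (m * φ (g⁻¹ x) v) = ℓ (φ x (g (m • v))) := by
    intro x
    rw [← h.pres_inv hg, (φ _).map_smul, smul_eq_mul]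
  have f2 : ∀ x : V, ℓ (l * φ x a) = ℓ (φ x (l • a)) := by
    intro x; rw [(φ _).map_smul, smul_eq_mul]
  have T1 := h.tv a l
  have T1' := h.tv a (-l)
  have T2 := (h.tv v m).conj hg
  have T2' := (h.tv v (-m)).conj hg
  refine (T1.comp (T2.comp (T1'.comp T2'))).congr fun x => ?_
  have e1 : g (kt φ v (-m) (g⁻¹ x)) = x - g ((m * φ (g⁻¹ x) v) • v) := by
    rw [kt, map_add, apply_inv_apply, neg_mul, neg_smul, map_neg, sub_eq_add_neg]
  have e2 : ∀ y : V, g (kt φ v m (g⁻¹ y)) = y + g ((m * φ (g⁻¹ y) v) • v) := by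
    intro y
    rw [kt, map_add, apply_inv_apply]
  rw [e1, e2]
  have c1 : φ (x - g ((m * φ (g⁻¹ x) v) • v)) a
      = φ x a + algebraMap F K (ℓ (m * φ (g⁻¹ x) v)) := by
    rw [φ.map_sub, LinearMap.sub_apply, hq, sub_neg_eq_add]
  have c2 : kt φ a (-l) (x - g ((m * φ (g⁻¹ x) v) • v))
      = x - g ((m * φ (g⁻¹ x) v) • v)
        - (l * (φ x a + algebraMap F K (ℓ (m * φ (g⁻¹ x) v)))) • a := by
    rw [kt, c1, neg_mul, neg_smul, sub_eq_add_neg _ ((l * _) • a)]
  rw [c2]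
  have c3 : φ (g⁻¹ (x - g ((m * φ (g⁻¹ x) v) • v)
        - (l * (φ x a + algebraMap F K (ℓ (m * φ (g⁻¹ x) v)))) • a)) v
      = φ (g⁻¹ x) v - algebraMap F K (ℓ (l * φ x a)) := by
    rw [map_sub g⁻¹, map_sub g⁻¹, φ.map_sub, φ.map_sub, LinearMap.sub_apply, LinearMap.sub_apply,
      hpg, hp, sub_zero, mul_add, map_add ℓ, smul_alg, hl, mul_zero, add_zero]
  rw [c3, kt]
  have c4 : φ (x - g ((m * φ (g⁻¹ x) v) • v)
        - (l * (φ x a + algebraMap F K (ℓ (m * φ (g⁻¹ x) v)))) • a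
        + g ((m * (φ (g⁻¹ x) v - algebraMap F K (ℓ (l * φ x a)))) • v)) a
      = φ x a + algebraMap F K (ℓ (l * φ x a) * ℓ m) := by
    rw [φ.map_add, φ.map_sub, φ.map_sub, LinearMap.add_apply, LinearMap.sub_apply,
      LinearMap.sub_apply, hq, hq, hqa, mul_sub, map_sub ℓ, smul_alg, map_sub (algebraMap F K)]
    ring
  rw [c4, ← f1, ← f2]
  have d1 : ∀ c : F, (l * algebraMap F K c) • a = c • (l • a) := by
    intro c
    rw [mul_comm, mul_smul, algebraMap_smul]
  have d2 : ∀ c : F, g ((m * algebraMap F K c) • v) = c • g (m • v) := by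
    intro c
    rw [mul_comm, mul_smul, algebraMap_smul, map_smul]
  rw [mul_sub, sub_smul, map_sub g, d2, mul_add, add_smul, d1, mul_add, add_smul, d1,
    mul_comm (ℓ m)]
  abel

/-- The transvections over `F`, more than two elements. -/
theorem has_tv {g : V ≃ₗ[F] V} (hg : g ∈ M) {a v : V}
    (hth : ∀ k : K, φ a (g (k • v)) = algebraMap F K (ℓ k)) {l : K} (hl : ℓ l = 0)
    {c : F} (hc : c * c ≠ c) (e : F) :
    Has M (fun x => x + (e * ℓ (φ x (l • a))) • (l • a)) := by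
  obtain ⟨m, hm⟩ := h.exists_ell (e / (c * c - c))
  have hc' : c * c - c ≠ 0 := sub_ne_zero.2 hc
  have he : e = (c * c - c) * ℓ m := by rw [hm, mul_div_cancel₀ _ hc']
  have R1 := h.has_R hg hth (l := c • l) (by rw [map_smul, hl, smul_zero]) m
  have R2 := h.has_R hg hth hl (c • m)
  -- values
  have v1 : ℓ (φ (l • a) (g (m • v))) = 0 := by
    rw [φ.map_smul, LinearMap.smul_apply, hth, smul_eq_mul, smul_alg, hl, mul_zero]
  have v2 : ℓ (φ (g (m • v)) (l • a)) = 0 := by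
    rw [h.skew, map_neg, v1, neg_zero]
  have v3 : φ (l • a) (l • a) = 0 := h.alt _
  have v4 : φ (g (m • v)) (g (m • v)) = 0 := h.alt _
  have hcm : g ((c • m) • v) = c • g (m • v) := by rw [smul_assoc, map_smul]
  have hcl : (c • l) • a = c • (l • a) := by rw [smul_assoc]
  have hs : ∀ (x y : V) (c : F), ℓ (φ x (c • y)) = c * ℓ (φ x y) := by
    intro x y c
    rw [← algebraMap_smul K c y, (φ x).map_smul, algebraMap_smul, map_smul, smul_eq_mul]
  have hs' : ∀ (x y : V) (c : F), ℓ (φ (c • x) y) = c * ℓ (φ x y) := by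
    intro x y c
    rw [← algebraMap_smul K c x, φ.map_smul, LinearMap.smul_apply, algebraMap_smul, map_smul,
      smul_eq_mul]
  have ha' : ∀ (x y z : V), ℓ (φ (x + y) z) = ℓ (φ x z) + ℓ (φ y z) := by
    intro x y z; rw [φ.map_add, LinearMap.add_apply, map_add]
  have hb' : ∀ (x y z : V), ℓ (φ (x - y) z) = ℓ (φ x z) - ℓ (φ y z) := by
    intro x y z; rw [φ.map_sub, LinearMap.sub_apply, map_sub]
  rw [hcm, map_smul ℓ, smul_eq_mul] at R2
  rw [hcl] at R1
  clear hcm hcl hth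
  generalize g (m • v) = w' at *
  generalize l • a = w at *
  have R3 : Has M (fun x => x + ℓ (φ x (c • w')) • w
      + ℓ (φ x w) • (c • w') - ((c * ℓ m) * ℓ (φ x w)) • w) := by
    refine R2.inv fun x => ?_
    simp only [hs, hs', ha', hb', v1, v2, v3, v4, mul_zero, map_zero, add_zero, sub_zero, sub_self,
      zero_smul, zero_add]
    module
  refine (R3.comp R1).congr fun x => ?_
  simp only [hs, hs', ha', hb', v1, v2, v3, v4, mul_zero, map_zero, add_zero, sub_zero, sub_self,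
      zero_smul, zero_add]
  rw [he]
  module

/-- All the transvections over `F`, more than two elements. -/
theorem has_all {g : V ≃ₗ[F] V} (hg : g ∈ M) {a v : V}
    (hth : ∀ k : K, φ a (g (k • v)) = algebraMap F K (ℓ k)) {l : K} (hl : ℓ l = 0) (hl0 : l ≠ 0)
    {c : F} (hc : c * c ≠ c) (y : V) (e : F) :
    Has M (fun x => x + (e * ℓ (φ x y)) • y) := by
  by_cases hy : y = 0
  · subst hy
    refine has_id.congr fun x => ?_
    rw [smul_zero, add_zero]
  have ha : a ≠ 0 := by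
    rintro rfl
    apply h.lne
    ext k
    have := hth k
    rw [map_zero, LinearMap.zero_apply] at this
    rw [LinearMap.zero_apply]
    exact (algebraMap F K).injective (by rw [← this, map_zero])
  obtain ⟨t, ht, hty, hi⟩ := h.trans (x := l • a) (y := y) (smul_ne_zero hl0 ha) hy
  refine ((h.has_tv hg hth hl hc e).conj ht).congr fun x => ?_
  have : φ (t⁻¹ x) (l • a) = φ x y := by
    rw [← hi, apply_inv_apply, hty]
  simp only [map_add, map_smul, this, hty, apply_inv_apply]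

end Hyp

end Cfsg.Agent.H879.ExtField
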