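import Cfsg.Agent.H879.ExtField

/-!
Overgroups of `Sp(V, φ)`: reduction to a pair with pairing of rank one.
-/

set_option autoImplicit false
set_option linter.unusedSectionVars false
set_option linter.unusedSimpArgs false

namespace Cfsg.Agent.H879.ExtField

open Module

variable {F K V : Type*} [Field F] [Field K] [Algebra F K] [AddCommGroup V]
  [Module F V] [Module K V] [IsScalarTower F K V]
  {φ : V →ₗ[K] V →ₗ[K] K} {ℓ : K →ₗ[F] F} {M : Subgroup (V ≃ₗ[F] V)}

/-- A subspace of `K` of dimension at least two generates `K`, `K` of prime degree over `F`. -/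
theorem mem_of_closed [FiniteDimensional F K] (hr : (finrank F K).Prime) (D : Submodule F K)
    {x : K} (hx : ∀ c : F, x ≠ algebraMap F K c) (h : ∀ d ∈ D, x * d ∈ D) (hD : D ≠ ⊥) :
    D = ⊤ := by
  let A : Subalgebra F K :=
    { carrier := {y | ∀ d ∈ D, y * d ∈ D}
      mul_mem' := fun {a b} ha hb d hd => by rw [mul_assoc]; exact ha _ (hb _ hd)
      add_mem' := fun {a b} ha hb d hd => by rw [add_mul]; exact D.add_mem (ha _ hd) (hb _ hd)
      algebraMap_mem' := fun c d hd => by
        rw [← Algebra.smul_def]; exact D.smul_mem _ hd }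
  have hxA : x ∈ A := h
  have htop : A = ⊤ := by
    have := IntermediateField.isSimpleOrder_of_finrank_prime F K hr
    have h1 : IntermediateField.adjoin F {x} = ⊤ := by
      rcases this.eq_bot_or_eq_top (IntermediateField.adjoin F {x}) with h2 | h2
      · exfalso
        have h3 : x ∈ IntermediateField.adjoin F {x} := IntermediateField.mem_adjoin_simple_self F x
        rw [h2, IntermediateField.mem_bot] at h3
        obtain ⟨c, hc⟩ := h3
        exact hx c hc.symm
      · exact h2
    have h2 : Algebra.adjoin F {x} = ⊤ := by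
      rw [← IntermediateField.adjoin_simple_toSubalgebra_of_isAlgebraic
        (IsAlgebraic.of_finite F x), h1]
      rfl
    rw [eq_top_iff, ← h2]
    exact Algebra.adjoin_le (by simpa using hxA)
  obtain ⟨d, hd, hd0⟩ := D.ne_bot_iff.1 hD
  rw [eq_top_iff]
  intro y _
  have hy : y * d⁻¹ ∈ A := by rw [htop]; trivial
  have := hy d hd
  rwa [mul_assoc, inv_mul_cancel₀ hd0, mul_one] at this

/-- The step: a map `θ` of rank at least two, `η` its adjoint. -/
theorem exists_step [FiniteDimensional F K] (hr : (finrank F K).Prime) (θ η : K →ₗ[F] K)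
    (hrank : finrank F (LinearMap.range η) = finrank F (LinearMap.range θ))
    (h2 : 2 ≤ finrank F (LinearMap.range θ)) (hker : LinearMap.ker θ ≠ ⊥) :
    ∃ m : K, (∃ k, θ (m * η k) ≠ 0) ∧
      finrank F (LinearMap.range (θ ∘ₗ LinearMap.mulLeft F m ∘ₗ η))
        < finrank F (LinearMap.range θ) := by
  by_contra hcon
  push Not at hcon
  -- dichotomy
  have dich : ∀ m : K, (∃ k, θ (m * η k) ≠ 0) → ∀ c ∈ LinearMap.range η, θ (m * c) = 0 → m * c = 0 := by
    intro m hm c hc hc0
    have h3 := hcon m hm
    rw [LinearMap.range_comp, LinearMap.range_comp] at h3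
    set C := LinearMap.range η with hC
    have h4 : finrank F (Submodule.map (LinearMap.mulLeft F m) C) ≤ finrank F C :=
      Submodule.finrank_map_le _ _
    -- θ restricted to m C
    set C' := Submodule.map (LinearMap.mulLeft F m) C with hC'
    have h5 : finrank F (Submodule.map θ C') = finrank F (LinearMap.range (θ.domRestrict C')) := by
      rw [LinearMap.range_domRestrict]
    have h6 := LinearMap.finrank_range_add_finrank_ker (θ.domRestrict C')
    have h7 : finrank F (LinearMap.ker (θ.domRestrict C')) = 0 := by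
      rw [← h5] at h6
      omega
    have h8 : LinearMap.ker (θ.domRestrict C') = ⊥ := Submodule.finrank_eq_zero.1 h7
    have h9 : (⟨m * c, ⟨c, hc, rfl⟩⟩ : C') ∈ LinearMap.ker (θ.domRestrict C') := hc0
    rw [h8, Submodule.mem_bot] at h9
    exact congrArg Subtype.val h9
  -- closure of the kernel
  have hclos : ∀ d ∈ LinearMap.ker θ, ∀ c ∈ LinearMap.range η, ∀ c' ∈ LinearMap.range η, c ≠ 0 →
      (c' * c⁻¹) * d ∈ LinearMap.ker θ := by
    intro d hd c hc c' hc' hc0
    by_cases hd0 : d = 0
    · rw [hd0, mul_zero]; exact Submodule.zero_mem _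
    by_contra hn
    obtain ⟨k, hk⟩ := hc'
    have h3 : ∃ k, θ ((d * c⁻¹) * η k) ≠ 0 := by
      refine ⟨k, ?_⟩
      rw [hk]
      intro h4
      apply hn
      rw [LinearMap.mem_ker, ← h4]
      congr 1
      ring
    have h4 := dich (d * c⁻¹) h3 c hc (by
      rw [mul_assoc, inv_mul_cancel₀ hc0, mul_one]; exact hd)
    rw [mul_assoc, inv_mul_cancel₀ hc0, mul_one] at h4
    exact hd0 h4
  -- the range of η has dimension at least two
  obtain ⟨c, hc, hc0⟩ : ∃ c ∈ LinearMap.range η, c ≠ 0 := by
    by_contra hn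
    push Not at hn
    have : LinearMap.range η = ⊥ := by
      rw [Submodule.eq_bot_iff]; exact hn
    rw [this, finrank_bot] at hrank
    omega
  obtain ⟨c', hc', hcc⟩ : ∃ c' ∈ LinearMap.range η, ∀ e : F, c' * c⁻¹ ≠ algebraMap F K e := by
    by_contra hn
    push Not at hn
    have h3 : LinearMap.range η ≤ Submodule.span F {c} := by
      intro c' hc'
      obtain ⟨e, he⟩ := hn c' hc'
      rw [Submodule.mem_span_singleton]
      refine ⟨e, ?_⟩
      rw [Algebra.smul_def, ← he, mul_assoc, inv_mul_cancel₀ hc0, mul_one]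
    have h4 := Submodule.finrank_mono h3
    have h5 := finrank_span_singleton (K := F) hc0
    omega
  have htop : LinearMap.ker θ = ⊤ :=
    mem_of_closed hr _ hcc (fun d hd => hclos d hd c hc c' hc' hc0) hker
  have h3 : LinearMap.range θ = ⊥ := by
    rw [LinearMap.range_eq_bot]
    exact LinearMap.ker_eq_top.1 htop
  rw [h3, finrank_bot] at h2
  omega

/-- The adjoint has the same rank. -/
theorem rank_adj [FiniteDimensional F K] (hl : ℓ ≠ 0) (θ η : K →ₗ[F] K)
    (h : ∀ k k', ℓ (k' * η k) = ℓ (k * θ k')) :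
    finrank F (LinearMap.range η) = finrank F (LinearMap.range θ) := by
  let B : K →ₗ[F] Dual F K :=
    { toFun := fun k => ℓ ∘ₗ LinearMap.mulLeft F k
      map_add' := fun a b => by ext x; simp [add_mul]
      map_smul' := fun a b => by ext x; simp }
  have hBinj : Function.Injective B := by
    intro a b hab
    apply ell_ext hl
    intro k
    have := LinearMap.congr_fun hab k
    change ℓ (a * k) = ℓ (b * k) at this
    rw [mul_comm k, mul_comm k, this]
  have hBsurj : Function.Surjective B :=
    (LinearMap.injective_iff_surjective_of_finrank_eq_finrank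
      (Subspace.dual_finrank_eq (K := F) (V := K)).symm).1 hBinj
  have e1 : B ∘ₗ η = θ.dualMap ∘ₗ B := by
    ext k k'
    change ℓ (η k * k') = ℓ (k * θ k')
    rw [mul_comm, h]
  have e2 : finrank F (LinearMap.range (B ∘ₗ η)) = finrank F (LinearMap.range η) := by
    rw [LinearMap.range_comp]
    exact ((LinearMap.range η).equivMapOfInjective B hBinj).finrank_eq.symm
  have e3 : LinearMap.range (θ.dualMap ∘ₗ B) = LinearMap.range θ.dualMap := by
    rw [LinearMap.range_comp, LinearMap.range_eq_top.2 hBsurj, Submodule.map_top]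
  rw [← e2, e1, e3, LinearMap.finrank_range_dualMap_eq_finrank_range]

/-- Every functional is `ℓ (· * s)`. -/
theorem exists_rep [FiniteDimensional F K] (hl : ℓ ≠ 0) (ε : K →ₗ[F] F) :
    ∃ s : K, ∀ k, ε k = ℓ (k * s) := by
  let B : K →ₗ[F] Dual F K :=
    { toFun := fun k => ℓ ∘ₗ LinearMap.mulLeft F k
      map_add' := fun a b => by ext x; simp [add_mul]
      map_smul' := fun a b => by ext x; simp }
  have hBinj : Function.Injective B := by
    intro a b hab
    apply ell_ext hl
    intro k
    have := LinearMap.congr_fun hab k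
    change ℓ (a * k) = ℓ (b * k) at this
    rw [mul_comm k, mul_comm k, this]
  have hBsurj : Function.Surjective B :=
    (LinearMap.injective_iff_surjective_of_finrank_eq_finrank
      (Subspace.dual_finrank_eq (K := F) (V := K)).symm).1 hBinj
  obtain ⟨s, hs⟩ := hBsurj ε
  refine ⟨s, fun k => ?_⟩
  rw [← hs, mul_comm]
  rfl

/-- The map `θ`. -/
def theta (φ : V →ₗ[K] V →ₗ[K] K) (g : V ≃ₗ[F] V) (a v : V) : K →ₗ[F] K where
  toFun k := φ a (g (k • v))
  map_add' k k' := by rw [add_smul, map_add, map_add]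
  map_smul' c k := by
    rw [smul_assoc, map_smul, ← algebraMap_smul K c (g (k • v)), (φ a).map_smul, algebraMap_smul,
      RingHom.id_apply]

theorem theta_apply (g : V ≃ₗ[F] V) (a v : V) (k : K) : theta φ g a v k = φ a (g (k • v)) := rfl

namespace Hyp

variable (h : Hyp φ ℓ M)
include h

/-- Reduction to rank one. -/
theorem exists_rank_one [FiniteDimensional F K] (hr : (finrank F K).Prime) :
    ∀ (n : ℕ) (g : V ≃ₗ[F] V) (a v : V), g ∈ M → finrank F (LinearMap.range (theta φ g a v)) = n →
      1 ≤ n → LinearMap.ker (theta φ g a v) ≠ ⊥ →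
      ∃ g' ∈ M, ∃ a' v' : V, finrank F (LinearMap.range (theta φ g' a' v')) = 1 := by
  intro n
  induction n using Nat.strong_induction_on with
  | _ n ih =>
    intro g a v hg hn h1 hker
    by_cases hn1 : n = 1
    · exact ⟨g, hg, a, v, by rw [hn, hn1]⟩
    let η : K →ₗ[F] K :=
      { toFun := fun k => φ (g⁻¹ (k • a)) v
        map_add' := fun k k' => by rw [add_smul, map_add, φ.map_add, LinearMap.add_apply]
        map_smul' := fun c k => by
          rw [smul_assoc, map_smul, ← algebraMap_smul K c (g⁻¹ (k • a)), φ.map_smul,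
            LinearMap.smul_apply, algebraMap_smul, RingHom.id_apply] }
    have hη : ∀ k, η k = φ (g⁻¹ (k • a)) v := fun _ => rfl
    have hadj : ∀ k k', ℓ (k' * η k) = ℓ (k * theta φ g a v k') := by
      intro k k'
      rw [hη, theta_apply, ← smul_eq_mul, ← (φ _).map_smul, h.pres_inv hg, φ.map_smul,
        LinearMap.smul_apply, smul_eq_mul]
    have hrk := rank_adj h.lne _ _ hadj
    obtain ⟨m, ⟨k, hk⟩, hlt⟩ := exists_step hr _ η hrk (by omega) hker
    obtain ⟨t, ht, het⟩ := h.tv v m
    have hmem : g * t * g⁻¹ ∈ M := M.mul_mem (M.mul_mem hg ht) (M.inv_mem hg)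
    have heq : theta φ (g * t * g⁻¹) a a
        = theta φ g a v ∘ₗ LinearMap.mulLeft F m ∘ₗ η := by
      ext k
      change φ a (g (t (g⁻¹ (k • a)))) = φ a (g ((m * η k) • v))
      rw [het, kt, map_add, apply_inv_apply, map_add, (φ a).map_smul, h.alt, smul_zero, zero_add,
        hη]
    have hlt' : finrank F (LinearMap.range (theta φ (g * t * g⁻¹) a a)) < n := by
      rw [heq, ← hn]; exact hlt
    have hpos : 1 ≤ finrank F (LinearMap.range (theta φ (g * t * g⁻¹) a a)) := by
      rw [Nat.one_le_iff_ne_zero, heq, Ne, Submodule.finrank_eq_zero, LinearMap.range_eq_bot]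
      intro h0
      exact hk (LinearMap.congr_fun h0 k)
    have hker' : LinearMap.ker (theta φ (g * t * g⁻¹) a a) ≠ ⊥ := by
      intro h0
      have h3 := LinearMap.finrank_range_add_finrank_ker (theta φ (g * t * g⁻¹) a a)
      have h4 := LinearMap.finrank_range_add_finrank_ker (theta φ g a v)
      rw [h0, finrank_bot] at h3
      omega
    exact ih _ hlt' _ _ _ hmem rfl hpos hker'

/-- Normalised form. -/
theorem exists_normal [FiniteDimensional F K] (hr : (finrank F K).Prime) {g : V ≃ₗ[F] V}
    {a v : V} (hg : g ∈ M) (h1 : theta φ g a v ≠ 0) (hker : LinearMap.ker (theta φ g a v) ≠ ⊥) :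
    ∃ g' ∈ M, ∃ a' v' : V, ∀ k : K, φ a' (g' (k • v')) = algebraMap F K (ℓ k) := by
  have hpos : 1 ≤ finrank F (LinearMap.range (theta φ g a v)) := by
    rw [Nat.one_le_iff_ne_zero, Ne, Submodule.finrank_eq_zero, LinearMap.range_eq_bot]
    exact h1
  obtain ⟨g', hg', a', v', h2⟩ := h.exists_rank_one hr _ g a v hg rfl hpos hker
  rw [finrank_eq_one_iff'] at h2
  obtain ⟨⟨s, hs⟩, hs0, hall⟩ := h2
  have hs0' : s ≠ 0 := fun h0 => hs0 (Subtype.ext h0)
  have hall' : ∀ k, ∃ c : F, theta φ g' a' v' k = c • s := by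
    intro k
    obtain ⟨c, hc⟩ := hall ⟨theta φ g' a' v' k, ⟨k, rfl⟩⟩
    exact ⟨c, (congrArg Subtype.val hc).symm⟩
  choose ε hε using hall'
  have hinj : ∀ c c' : F, c • s = c' • s → c = c' := fun c c' hcc =>
    smul_left_injective F hs0' hcc
  let E : K →ₗ[F] F :=
    { toFun := ε
      map_add' := fun k k' => by
        apply hinj
        rw [← hε, map_add, hε, hε, add_smul]
      map_smul' := fun c k => by
        apply hinj
        rw [← hε, map_smul, hε, RingHom.id_apply, smul_assoc] }
  obtain ⟨s', hs'⟩ := exists_rep h.lne E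
  have hs'0 : s' ≠ 0 := by
    rintro rfl
    obtain ⟨k, hk⟩ := hs
    apply hs0'
    rw [← hk, hε]
    change E k • s = 0
    rw [hs', mul_zero, map_zero, zero_smul]
  refine ⟨g', hg', s⁻¹ • a', s'⁻¹ • v', fun k => ?_⟩
  rw [φ.map_smul, LinearMap.smul_apply, smul_smul, ← theta_apply, hε]
  change s⁻¹ • (E (k * s'⁻¹) • s) = _
  rw [hs', mul_assoc, inv_mul_cancel₀ hs'0, mul_one, smul_eq_mul, Algebra.smul_def, mul_comm,
    mul_assoc, mul_inv_cancel₀ hs0', mul_one]

/-- If no normalised configuration exists then `M` consists of semilinear maps. -/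
theorem semilinear_of_not [FiniteDimensional F K] (hr : (finrank F K).Prime)
    (hno : ¬ ∃ g' ∈ M, ∃ a' v' : V, ∀ k : K, φ a' (g' (k • v')) = algebraMap F K (ℓ k))
    {g : V ≃ₗ[F] V} (hg : g ∈ M) (k : K) : ∃ k' : K, ∀ x, g (k • x) = k' • g x := by
  have hloc : ∀ x, ∃ k' : K, g (k • x) = k' • g x := by
    intro x
    by_contra hcon
    push Not at hcon
    obtain ⟨a, ha, ha'⟩ := h.exists_sep hcon
    apply hno
    refine h.exists_normal hr hg (a := a) (v := x) ?_ ?_
    · intro h0
      apply ha'
      rw [← theta_apply, h0, LinearMap.zero_apply]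
    · intro h0
      have h1 : (1 : K) ∈ LinearMap.ker (theta φ g a x) := by
        rw [LinearMap.mem_ker, theta_apply, one_smul, ha]
      rw [h0, Submodule.mem_bot] at h1
      exact one_ne_zero h1
  choose c hc using hloc
  by_cases hV : ∃ x₀ : V, x₀ ≠ 0
  · obtain ⟨x₀, hx₀⟩ := hV
    have step : ∀ x y, φ (g x) (g y) ≠ 0 → c x = c y := by
      intro x y hxy
      have h1 := hc (x + y)
      rw [smul_add, map_add, hc, hc, map_add, smul_add] at h1
      have h2 : (c x - c (x + y)) • g x = (c (x + y) - c y) • g y := by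
        rw [sub_smul, sub_smul, sub_eq_sub_iff_add_eq_add, add_comm (c (x + y) • g y), h1.symm]
      have h3 := congrArg (φ (g x)) h2
      rw [(φ _).map_smul, (φ _).map_smul, h.alt, smul_zero, smul_eq_mul] at h3
      have h4 := congrArg (fun z => φ z (g y)) h2
      simp only [φ.map_smul, LinearMap.smul_apply, h.alt, smul_zero, smul_eq_mul] at h4
      have h5 : c (x + y) - c y = 0 := by
        rcases mul_eq_zero.1 h3.symm with h6 | h6
        · exact h6
        · exact absurd h6 hxy
      have h6 : c x - c (x + y) = 0 := by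
        rcases mul_eq_zero.1 (h4.trans (mul_zero _)) with h7 | h7
        · exact h7
        · exact absurd h7 hxy
      rw [sub_eq_zero] at h5 h6
      rw [h6, h5]
    refine ⟨c x₀, fun x => ?_⟩
    by_cases hx : x = 0
    · rw [hx, smul_zero, map_zero, smul_zero]
    have hgx : g x ≠ 0 := (LinearEquiv.map_ne_zero_iff g).2 hx
    have hgx₀ : g x₀ ≠ 0 := (LinearEquiv.map_ne_zero_iff g).2 hx₀
    obtain ⟨z, h1, h2⟩ := h.exists_common hgx hgx₀
    have h3 := step x (g⁻¹ z) (by rw [apply_inv_apply]; exact h1)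
    have h4 := step x₀ (g⁻¹ z) (by rw [apply_inv_apply]; exact h2)
    rw [hc, h3, ← h4]
  · push Not at hV
    exact ⟨0, fun x => by rw [hV x, smul_zero, map_zero, smul_zero]⟩

end Hyp

end Cfsg.Agent.H879.ExtField
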