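import Cfsg.Agent.H879.SpNormalizer
import Cfsg.Agent.H879.ExtTwo

/-!
Overgroups in `spGL m F` of the extension field subgroup of symplectic type.
-/

set_option autoImplicit false
set_option linter.unusedSectionVars false
set_option linter.unusedSimpArgs false

namespace Cfsg.Agent.H879.ExtField

open Module Matrix Cfsg.Agent.ClassicalGeometry.SympBasic Cfsg.Agent.H879

/-- The module structure given by an algebra of matrices. -/
@[reducible] def modOf {ι : Type} [Fintype ι] [DecidableEq ι] {F K : Type*} [Field F] [Field K]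
    [Algebra F K] (ρ : K →ₐ[F] Matrix ι ι F) : Module K (ι → F) where
  smul k v := ρ k *ᵥ v
  one_smul v := by
    change ρ 1 *ᵥ v = v
    rw [map_one, one_mulVec]
  mul_smul a b v := by
    change ρ (a * b) *ᵥ v = ρ a *ᵥ (ρ b *ᵥ v)
    rw [map_mul, mulVec_mulVec]
  smul_zero a := mulVec_zero _
  smul_add a x y := mulVec_add _ x y
  add_smul a b x := by
    change ρ (a + b) *ᵥ x = ρ a *ᵥ x + ρ b *ᵥ x
    rw [map_add, add_mulVec]
  zero_smul x := by
    change ρ 0 *ᵥ x = 0
    rw [map_zero, zero_mulVec]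

/-- The alternative for overgroups. -/
theorem overgroup {F K : Type*} [Field F] [Field K] [Algebra F K] [FiniteDimensional F K]
    (hr : (finrank F K).Prime) {m : ℕ} (hm : 3 ≤ m)
    (ρ : K →ₐ[F] Matrix (Fin m ⊕ Fin m) (Fin m ⊕ Fin m) F)
    (hsa : ∀ k x y, sympForm m F (ρ k *ᵥ x) y = sympForm m F x (ρ k *ᵥ y))
    (halt : ∀ k x, sympForm m F (ρ k *ᵥ x) x = 0)
    (M : Subgroup (GL (Fin m ⊕ Fin m) F))
    (hH : ∀ g ∈ spGL m F, (∀ k x, (g : Matrix _ _ F) *ᵥ (ρ k *ᵥ x) =
      ρ k *ᵥ ((g : Matrix _ _ F) *ᵥ x)) → g ∈ M) (hMS : M ≤ spGL m F) :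
    (∀ g ∈ M, ∀ k, ∃ k', ∀ x, (g : Matrix _ _ F) *ᵥ (ρ k *ᵥ x) =
      ρ k' *ᵥ ((g : Matrix _ _ F) *ᵥ x)) ∨ spGL m F ≤ M := by
  letI instM : Module K (Fin m ⊕ Fin m → F) := modOf ρ
  have hsmul : ∀ (k : K) (v : Fin m ⊕ Fin m → F), k • v = ρ k *ᵥ v := fun _ _ => rfl
  haveI instT : IsScalarTower F K (Fin m ⊕ Fin m → F) := by
    refine ⟨fun c k v => ?_⟩
    rw [hsmul, hsmul, map_smul, smul_mulVec]
  obtain ⟨ℓ, hℓ⟩ : ∃ ℓ : K →ₗ[F] F, ℓ ≠ 0 := exists_ne 0
  obtain ⟨φ, hφ, hφa⟩ := exists_phi (V := Fin m ⊕ Fin m → F) hℓ (sympForm m F)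
    sympForm_add_left sympForm_add_right sympForm_smul_left
    (fun k x y => by rw [hsmul, hsmul, hsa]) (fun k x => by rw [hsmul, halt])
  have hnd : ∀ x : Fin m ⊕ Fin m → F, x ≠ 0 → ∃ y, φ x y ≠ 0 := by
    intro x hx
    by_contra hcon
    push Not at hcon
    apply hx
    apply eq_zero_of_forall_sympForm_right
    intro w
    rw [← hφ, hcon, map_zero]
  have hskew : ∀ x y, φ x y = - φ y x := by
    intro x y
    have := hφa (x + y)
    simp only [map_add, LinearMap.add_apply, hφa, zero_add, add_zero] at this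
    exact eq_neg_of_add_eq_zero_right this
  have hiso : ∀ (v : Fin m ⊕ Fin m → F) (l : K) (x y : Fin m ⊕ Fin m → F),
      φ (kt φ v l x) (kt φ v l y) = φ x y := by
    intro v l x y
    unfold kt
    simp only [map_add, LinearMap.add_apply, map_smul, LinearMap.smul_apply, smul_eq_mul, hφa]
    rw [hskew v y]
    ring
  have hkk : ∀ (v : Fin m ⊕ Fin m → F) (l : K) (x : Fin m ⊕ Fin m → F),
      kt φ v l (kt φ v (-l) x) = x := by
    intro v l x
    unfold kt
    simp only [map_add, LinearMap.add_apply, map_smul, LinearMap.smul_apply, smul_eq_mul, hφa]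
    module
  have h : Hyp φ ℓ (M.map toEq.toMonoidHom) := by
    refine ⟨hφa, hnd, hℓ, ?_, ?_⟩
    · rintro _ ⟨g, hg, rfl⟩ x y
      rw [hφ, hφ]
      exact hMS hg x y
    · intro v l
      -- the transvection as an element of GL
      let T : (Fin m ⊕ Fin m → F) ≃ₗ[F] (Fin m ⊕ Fin m → F) :=
        { toFun := kt φ v l
          invFun := kt φ v (-l)
          map_add' := fun x y => by
            unfold kt
            simp only [map_add, LinearMap.add_apply]
            module
          map_smul' := fun c x => by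
            unfold kt
            rw [RingHom.id_apply, ← algebraMap_smul K c x, φ.map_smul, LinearMap.smul_apply,
              ← algebraMap_smul K c (x + _)]
            module
          left_inv := fun x => by
            have := hkk v (-l) x
            rwa [neg_neg] at this
          right_inv := fun x => hkk v l x }
      have hT : ∀ x, T x = kt φ v l x := fun _ => rfl
      rw [has_map_iff]
      have hTe : ∀ x, ((toEq.symm T : GL (Fin m ⊕ Fin m) F) : Matrix _ _ F) *ᵥ x = kt φ v l x := by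
        intro x
        rw [← toEq_apply, MulEquiv.apply_symm_apply, hT]
      refine ⟨toEq.symm T, hH _ ?_ ?_, hTe⟩
      · intro x y
        change sympForm m F (((toEq.symm T : GL (Fin m ⊕ Fin m) F) : Matrix _ _ F) *ᵥ x)
          (((toEq.symm T : GL (Fin m ⊕ Fin m) F) : Matrix _ _ F) *ᵥ y) = _
        rw [hTe, hTe, ← hφ, hiso, hφ]
      · intro k x
        rw [hTe, hTe, ← hsmul, ← hsmul, kt, kt, φ.map_smul, LinearMap.smul_apply]
        module
  -- three orthogonal vectors
  let i₀ : Fin m := ⟨0, by omega⟩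
  let i₁ : Fin m := ⟨1, by omega⟩
  let i₂ : Fin m := ⟨2, by omega⟩
  have h01 : i₀ ≠ i₁ := by simp [i₀, i₁, Fin.ext_iff]
  have h02 : i₀ ≠ i₂ := by simp [i₀, i₂, Fin.ext_iff]
  have h12 : i₁ ≠ i₂ := by simp [i₁, i₂, Fin.ext_iff]
  have horth : ∀ i j : Fin m, ℓ (φ (Pi.single (Sum.inl i) 1) (Pi.single (Sum.inl j) 1)) = 0 := by
    intro i j
    rw [hφ, sympForm_single_inl_left, Pi.single_eq_of_ne Sum.inr_ne_inl]
    simp
  rcases dichotomy hr h (e₁ := Pi.single (Sum.inl i₀) 1) (e₂ := Pi.single (Sum.inl i₁) 1)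
    (e₃ := Pi.single (Sum.inl i₂) 1) (horth _ _) (horth _ _) (horth _ _)
    (fun h0 => by simpa using congrFun h0 (Sum.inl i₀))
    (fun h0 => by simpa using congrFun h0 (Sum.inl i₁))
    (fun h0 => by simpa using congrFun h0 (Sum.inl i₂))
    (fun h0 => by simpa [h01, h02, h12] using congrFun h0 (Sum.inl i₀))
    (fun h0 => by simpa [h01, h02, h12] using congrFun h0 (Sum.inl i₀))
    (fun h0 => by simpa [h01, h02, h12] using congrFun h0 (Sum.inl i₁))
    (fun h0 => by simpa [h01, h02, h12] using congrFun h0 (Sum.inl i₀)) with h1 | h1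
  · left
    intro g hg k
    obtain ⟨k', hk'⟩ := h1 (toEq g) ⟨g, hg, rfl⟩ k
    exact ⟨k', hk'⟩
  · right
    apply spGL_le_of_has
    intro v c
    refine (h1 v c).congr fun x => ?_
    rw [hφ]

end Cfsg.Agent.H879.ExtField
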