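import Cfsg.Agent.H879.Basic

/-!
The normaliser in `spGL m F` of a field subalgebra `K ≠ F`: criteria for membership, and it is not
the whole of `spGL m F`.
-/

set_option autoImplicit false
set_option linter.unusedSectionVars false
set_option linter.unusedSimpArgs false

namespace Cfsg.Agent.H879

open Module Matrix Cfsg.Agent.ClassicalGeometry.SympBasic

section General

variable {ι : Type} [Fintype ι] [DecidableEq ι] {F : Type*} [Field F]
  {K : Subalgebra F (Matrix ι ι F)}

theorem mem_subalgebraNormalizer_of {g : GL ι F}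
    (h : ∀ k ∈ K, (g : Matrix ι ι F) * k * ((g⁻¹ : GL ι F) : Matrix ι ι F) ∈ K) :
    g ∈ Cfsg.Geo.subalgebraNormalizer K := by
  intro k
  refine ⟨h k, fun hk => ?_⟩
  let L : K →ₗ[F] K :=
    { toFun := fun x => ⟨(g : Matrix ι ι F) * x * ((g⁻¹ : GL ι F) : Matrix ι ι F), h x x.2⟩
      map_add' := fun x y => by
        apply Subtype.ext
        simp only [Subalgebra.coe_add, mul_add, add_mul]
      map_smul' := fun c x => by
        apply Subtype.ext
        simp only [Subalgebra.coe_smul, Matrix.mul_smul, Matrix.smul_mul, RingHom.id_apply] }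
  have hinj : Function.Injective L := by
    intro x y hxy
    have h1 := congrArg Subtype.val hxy
    change (g : Matrix ι ι F) * x * ((g⁻¹ : GL ι F) : Matrix ι ι F) =
      (g : Matrix ι ι F) * y * ((g⁻¹ : GL ι F) : Matrix ι ι F) at h1
    have h2 := congrArg (fun z => ((g⁻¹ : GL ι F) : Matrix ι ι F) * z * (g : Matrix ι ι F)) h1
    simp only [mul_assoc, ← Units.val_mul, inv_mul_cancel, Units.val_one, mul_one] at h2
    simp only [← mul_assoc, ← Units.val_mul, inv_mul_cancel, Units.val_one, one_mul] at h2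
    exact Subtype.ext h2
  have hsurj : Function.Surjective L := LinearMap.surjective_of_injective hinj
  obtain ⟨x, hx⟩ := hsurj ⟨_, hk⟩
  have h1 := congrArg Subtype.val hx
  change (g : Matrix ι ι F) * x * ((g⁻¹ : GL ι F) : Matrix ι ι F) =
      (g : Matrix ι ι F) * k * ((g⁻¹ : GL ι F) : Matrix ι ι F) at h1
  have h2 := congrArg (fun z => ((g⁻¹ : GL ι F) : Matrix ι ι F) * z * (g : Matrix ι ι F)) h1
  simp only [mul_assoc, ← Units.val_mul, inv_mul_cancel, Units.val_one, mul_one] at h2
  simp only [← mul_assoc, ← Units.val_mul, inv_mul_cancel, Units.val_one, one_mul] at h2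
  rw [← h2]
  exact x.2

/-- A `K`-semilinear map normalises `K`. -/
theorem mem_subalgebraNormalizer_of_semilinear {g : GL ι F}
    (h : ∀ k ∈ K, ∃ k' ∈ K, ∀ x : ι → F,
      (g : Matrix ι ι F) *ᵥ (k *ᵥ x) = k' *ᵥ ((g : Matrix ι ι F) *ᵥ x)) :
    g ∈ Cfsg.Geo.subalgebraNormalizer K := by
  apply mem_subalgebraNormalizer_of
  intro k hk
  obtain ⟨k', hk', he⟩ := h k hk
  have h1 : (g : Matrix ι ι F) * k = k' * g := by
    apply Matrix.mulVec_injective
    funext x
    rw [← mulVec_mulVec, he, mulVec_mulVec]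
  rw [h1, mul_assoc, ← Units.val_mul, mul_inv_cancel, Units.val_one, mul_one]
  exact hk'

theorem semilinear_of_mem {g : GL ι F} (hg : g ∈ Cfsg.Geo.subalgebraNormalizer K)
    {k : Matrix ι ι F} (hk : k ∈ K) : ∃ k' ∈ K, ∀ x : ι → F,
      (g : Matrix ι ι F) *ᵥ (k *ᵥ x) = k' *ᵥ ((g : Matrix ι ι F) *ᵥ x) := by
  refine ⟨_, (hg k).1 hk, fun x => ?_⟩
  rw [mulVec_mulVec, mulVec_mulVec, mul_assoc, mul_assoc, ← Units.val_mul, inv_mul_cancel,
    Units.val_one, mul_one]

/-- A matrix mapping every vector to a multiple is a scalar. -/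
theorem scalar_of_forall {k : Matrix ι ι F} (h : ∀ v : ι → F, ∃ c : F, k *ᵥ v = c • v) :
    ∃ c : F, k = c • (1 : Matrix ι ι F) := by
  by_cases hι : Nonempty ι
  · obtain ⟨i₀⟩ := hι
    choose c hc using h
    refine ⟨c (fun _ => 1), ?_⟩
    ext i j
    -- compare with e_j and the sum
    have hoff : ∀ i j, i ≠ j → k i j = 0 := by
      intro i j hij
      have h1 := congrFun (hc (Pi.single j 1)) i
      rw [mulVec_single_one] at h1
      simp only [col_apply, Pi.smul_apply, Pi.single_eq_of_ne hij, smul_eq_mul, mul_zero] at h1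
      exact h1
    have hdiag : ∀ i, k i i = c (fun _ => 1) := by
      intro i
      have h1 := congrFun (hc (fun _ => 1)) i
      simp only [mulVec, dotProduct, mul_one, Pi.smul_apply, smul_eq_mul] at h1
      rw [Finset.sum_eq_single i] at h1
      · exact h1
      · intro b _ hb
        exact hoff i b (Ne.symm hb)
      · intro hn
        exact absurd (Finset.mem_univ i) hn
    by_cases hij : i = j
    · subst hij
      rw [hdiag]
      simp
    · rw [hoff i j hij]
      simp [hij]
  · refine ⟨0, ?_⟩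
    ext i
    exact absurd ⟨i⟩ hι

/-- A field subalgebra of degree at least two contains a non-scalar. -/
theorem exists_nonscalar {r : ℕ} (hK : Cfsg.Geo.IsFieldSubalgebra r K) (hr : 2 ≤ r) :
    ∃ k ∈ K, ∀ c : F, k ≠ c • (1 : Matrix ι ι F) := by
  by_contra hcon
  push Not at hcon
  have h1 : Subalgebra.toSubmodule K ≤ Submodule.span F {(1 : Matrix ι ι F)} := by
    intro k hk
    obtain ⟨c, hc⟩ := hcon k hk
    rw [Submodule.mem_span_singleton]
    exact ⟨c, hc.symm⟩
  have h2 := Submodule.finrank_mono h1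
  have h3 : finrank F (Submodule.span F {(1 : Matrix ι ι F)}) ≤ 1 := by
    have := finrank_span_le_card (R := F) ({(1 : Matrix ι ι F)} : Set (Matrix ι ι F))
    simpa using this
  have h4 : finrank F (Subalgebra.toSubmodule K) = r := hK.finrank_eq
  omega

/-- A nonzero element of a field subalgebra kills no nonzero vector. -/
theorem mulVec_ne_zero {r : ℕ} (hK : Cfsg.Geo.IsFieldSubalgebra r K) {k : Matrix ι ι F}
    (hk : k ∈ K) (hk0 : k ≠ 0) {v : ι → F} (hv : v ≠ 0) : k *ᵥ v ≠ 0 := by
  obtain ⟨y, hy, hky⟩ := hK.inv k hk hk0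
  intro h0
  apply hv
  have h1 : y * k = 1 := by rw [hK.comm y hy k hk, hky]
  rw [← one_mulVec v, ← h1, ← mulVec_mulVec, h0, mulVec_zero]

end General

section Symp

variable {m : ℕ} {F : Type*} [Field F]
  {K : Subalgebra F (Matrix (Fin m ⊕ Fin m) (Fin m ⊕ Fin m) F)}

/-- The symplectic transvection as an element of `GL`. -/
noncomputable def spt (v : Fin m ⊕ Fin m → F) (c : F) : GL (Fin m ⊕ Fin m) F where
  val := sympTransvection m v c
  inv := sympTransvection m v (-c)
  val_inv := by rw [sympTransvection_mul, add_neg_cancel, sympTransvection_zero]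
  inv_val := by rw [sympTransvection_mul, neg_add_cancel, sympTransvection_zero]

theorem spt_mulVec (v x : Fin m ⊕ Fin m → F) (c : F) :
    (spt v c : Matrix _ _ F) *ᵥ x = x + (c * sympForm m F x v) • v :=
  sympTransvection_mulVec v x c

theorem spt_mem (v : Fin m ⊕ Fin m → F) (c : F) : spt v c ∈ spGL m F := by
  intro x y
  change sympForm m F (sympTransvection m v c *ᵥ x) (sympTransvection m v c *ᵥ y) = _
  rw [sympTransvection_mulVec, sympTransvection_mulVec]
  simp only [sympForm_add_left, sympForm_add_right, sympForm_smul_left, sympForm_smul_right,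
    sympForm_self]
  rw [sympForm_swap v y]
  ring

/-- The normaliser of a field subalgebra of degree at least two is not everything. -/
theorem not_spGL_le_normalizer {r : ℕ} (hK : Cfsg.Geo.IsFieldSubalgebra r K) (hr : 2 ≤ r)
    (hm : 2 ≤ m) : ¬ spGL m F ≤ Cfsg.Geo.subalgebraNormalizer K := by
  intro hle
  obtain ⟨k, hk, hns⟩ := exists_nonscalar hK hr
  obtain ⟨v, hv⟩ : ∃ v : Fin m ⊕ Fin m → F, ∀ c : F, k *ᵥ v ≠ c • v := by
    by_contra hcon
    push Not at hcon
    obtain ⟨c, hc⟩ := scalar_of_forall hcon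
    exact hns c hc
  have hv0 : v ≠ 0 := by
    rintro rfl
    exact hv 0 (by rw [mulVec_zero, smul_zero])
  obtain ⟨k', hk', he⟩ := semilinear_of_mem (hle (spt_mem v 1)) hk
  -- a common zero of two functionals
  let L : (Fin m ⊕ Fin m → F) →ₗ[F] (F × F) :=
    { toFun := fun x => (sympForm m F x v, sympForm m F (k *ᵥ x) v)
      map_add' := fun x y => by
        simp only [mulVec_add, sympForm_add_left, Prod.mk_add_mk]
      map_smul' := fun c x => by
        simp only [mulVec_smul, sympForm_smul_left, RingHom.id_apply, Prod.smul_mk, smul_eq_mul] }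
  have hker : LinearMap.ker L ≠ ⊥ := by
    apply LinearMap.ker_ne_bot_of_finrank_lt
    rw [finrank_prod, finrank_self, finrank_fintype_fun_eq_card, Fintype.card_sum,
      Fintype.card_fin]
    omega
  obtain ⟨x, hx, hx0⟩ := (LinearMap.ker L).ne_bot_iff.1 hker
  have hx1 : sympForm m F x v = 0 := congrArg Prod.fst (LinearMap.mem_ker.1 hx)
  have hx2 : sympForm m F (k *ᵥ x) v = 0 := congrArg Prod.snd (LinearMap.mem_ker.1 hx)
  have h1 := he x
  rw [spt_mulVec, spt_mulVec, hx1, hx2, mul_zero, zero_smul, add_zero, add_zero] at h1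
  have h2 : k = k' := by
    by_contra hne
    have h3 : (k - k') *ᵥ x ≠ 0 := mulVec_ne_zero hK (K.sub_mem hk hk') (sub_ne_zero.2 hne) hx0
    rw [sub_mulVec, h1, sub_self] at h3
    exact h3 rfl
  subst h2
  -- some `y` with `f(y, v) ≠ 0`
  obtain ⟨y, hy⟩ : ∃ y, sympForm m F y v ≠ 0 := by
    by_contra hcon
    push Not at hcon
    exact hv0 (eq_zero_of_forall_sympForm_left hcon)
  have h3 := he y
  rw [spt_mulVec, spt_mulVec, mulVec_add, mulVec_smul, add_right_inj] at h3
  apply hv ((1 * sympForm m F y v)⁻¹ * (1 * sympForm m F (k *ᵥ y) v))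
  rw [mul_smul, h3, smul_smul, inv_mul_cancel₀ (by rw [one_mul]; exact hy), one_smul]

/-- The form of the final argument. -/
theorem isMaximalIn_of {r : ℕ} (hK : Cfsg.Geo.IsFieldSubalgebra r K) (hr : 2 ≤ r) (hm : 2 ≤ m)
    (h : ∀ M : Subgroup (GL (Fin m ⊕ Fin m) F), Cfsg.Geo.subalgebraNormalizer K ⊓ spGL m F ≤ M →
      M ≤ spGL m F → M ≤ Cfsg.Geo.subalgebraNormalizer K ∨ spGL m F ≤ M) :
    Cfsg.Geo.IsMaximalIn (spGL m F) (Cfsg.Geo.subalgebraNormalizer K ⊓ spGL m F) := by
  refine ⟨lt_of_le_of_ne inf_le_right fun heq => ?_, fun M h1 h2 => ?_⟩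
  · apply not_spGL_le_normalizer hK hr hm
    rw [← heq]
    exact inf_le_left
  · rcases h M h1 h2 with h3 | h3
    · exact Or.inl (le_antisymm (le_inf h3 h2) h1)
    · exact Or.inr (le_antisymm h2 h3)

end Symp

end Cfsg.Agent.H879
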