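import Cfsg.Agent.H879.TenTI
import Cfsg.Agent.H879.QuadPair
import Cfsg.Agent.H880.TI

/-!
# Overgroups of `Sp(U) ⊗ O(W)`, `dim U ≥ 4`, odd characteristic (helper879)
-/

set_option autoImplicit false
set_option linter.unusedSimpArgs false
open Cfsg
open scoped Matrix TensorProduct
open Cfsg.Agent.ClassicalGeometry.SympBasic Cfsg.Agent.ClassicalGeometry.SympSiegel

namespace Cfsg.Agent.H879.TenS

open Cfsg.Agent.H875 Cfsg.Agent.H875.Ten

variable {F : Type*} [Field F] {m : ℕ}

local notation "V" => (Fin m ⊕ Fin m → F)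
local notation "G" => Matrix.symplecticGroup (Fin m) F
local notation "f" => sympForm m F

variable {U W : Type*} [AddCommGroup U] [Module F U] [AddCommGroup W] [Module F W]
variable {A : LinearMap.BilinForm F U} {B : LinearMap.BilinForm F W}
  {Θ : U ⊗[F] W ≃ₗ[F] (Fin m ⊕ Fin m → F)} {M : Subgroup (Matrix.symplecticGroup (Fin m) F)}

/-- The subgroup of the elements respecting the tensor structure. -/
def InHsub (h : TS A B Θ) [FiniteDimensional F U] [FiniteDimensional F W] [Nontrivial U]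
    [Nontrivial W] : Subgroup G where
  carrier := {g | InH Θ g}
  mul_mem' := fun ha hb => InH.mul ha hb
  one_mem' := ⟨LinearMap.id, LinearMap.id, fun u w => by rw [one_smul]; rfl⟩
  inv_mem' := fun ha => InH_inv h ha

theorem mem_InHsub (h : TS A B Θ) [FiniteDimensional F U] [FiniteDimensional F W] [Nontrivial U]
    [Nontrivial W] (g : G) : g ∈ InHsub h ↔ InH Θ g := Iff.rfl

/-- If a `p`-subgroup contains `t_a` and `g t_b g⁻¹` then `g ∈ H`. -/
theorem inH_of_pgroup [Finite F] {p : ℕ} [hp : Fact p.Prime] [CharP F p] (h2 : (2 : F) ≠ 0)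
    (h : TS A B Θ) [FiniteDimensional F W] [Nontrivial W]
    [FiniteDimensional F U] (hU : 3 ≤ Module.finrank F U)
    (hdim : 3 ≤ Module.finrank F W) {s₀ : W} (hs0 : s₀ ≠ 0) (hs : B s₀ s₀ = 0)
    (hH : ∀ g, InH Θ g → g ∈ M)
    (hscal : ∀ (x : U) (S : W →ₗ[F] W), x ≠ 0 → InAt Θ A M x S → ∃ c : F, S = c • LinearMap.id)
    {a b : U} (ha : a ≠ 0) (hb : b ≠ 0) {t s : G} (ht : ∀ v, t • v = v + tn Θ a (ct Θ A a v))
    (hs' : ∀ v, s • v = v + tn Θ b (ct Θ A b v)) {g : G} (hg : g ∈ M)
    (hpg : IsPGroup p (Subgroup.closure ({t, g * s * g⁻¹} : Set G))) : InH Θ g := by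
  have : Nontrivial U := ⟨a, 0, ha⟩
  have : Finite G := inferInstance
  have htH : InH Θ t := by
    obtain ⟨t', ht', htv'⟩ := h.exists_tU a 1
    have : t = t' := by
      apply Subtype.ext
      apply Matrix.mulVec_injective
      funext v
      have h3 := ht v
      have h4 := htv' v
      rw [one_smul] at h4
      rw [← h4] at h3
      exact h3
    rw [this]; exact ht'
  have hsH : InH Θ s := by
    obtain ⟨t', ht', htv'⟩ := h.exists_tU b 1
    have : s = t' := by
      apply Subtype.ext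
      apply Matrix.mulVec_injective
      funext v
      have h3 := hs' v
      have h4 := htv' v
      rw [one_smul] at h4
      rw [← h4] at h3
      exact h3
    rw [this]; exact ht'
  set L := Subgroup.closure ({t, g * s * g⁻¹} : Set G) with hL
  have htM : t ∈ M := hH t htH
  have hsM : s ∈ M := hH s hsH
  have hLM : L ≤ M := by
    rw [hL, Subgroup.closure_le]
    rintro x (rfl | rfl)
    · exact htM
    · exact M.mul_mem (M.mul_mem hg hsM) (M.inv_mem hg)
  -- powers of `t_a`
  have hpow : ∀ (c : U) (r : G), (∀ v, r • v = v + tn Θ c (ct Θ A c v)) → r ^ p = 1 := by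
    intro c r hr
    have h3 : ∀ (n : ℕ) (v : V), (r ^ n) • v = v + (n : F) • tn Θ c (ct Θ A c v) := by
      intro n
      induction n with
      | zero => intro v; rw [pow_zero, one_smul, Nat.cast_zero, zero_smul, add_zero]
      | succ n ih =>
        intro v
        rw [pow_succ, mul_smul, ih, hr, map_add, ct_tn, h.alt, zero_smul, add_zero, Nat.cast_succ,
          add_smul, one_smul]
        abel
    apply Subtype.ext
    apply Matrix.mulVec_injective
    funext v
    have h4 := h3 p v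
    rw [CharP.cast_eq_zero, zero_smul, add_zero] at h4
    rw [Submonoid.coe_one, Matrix.one_mulVec]
    exact h4
  let H' : Subgroup M := (InHsub h).subgroupOf M
  let D : Set M := {x | ∃ c : U, c ≠ 0 ∧ ∀ v, (x : G) • v = v + tn Θ c (ct Θ A c v)}
  have hD : ∀ x ∈ D, x ∈ H' ∧ ∃ k : ℕ, x ^ p ^ k = 1 := by
    rintro ⟨x, hxM⟩ ⟨c, hc, hx⟩
    refine ⟨?_, 1, ?_⟩
    · change InH Θ x
      obtain ⟨t', ht', htv'⟩ := h.exists_tU c 1
      have : x = t' := by
        apply Subtype.ext
        apply Matrix.mulVec_injective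
        funext v
        have h3 := hx v
        have h4 := htv' v
        rw [one_smul] at h4
        rw [← h4] at h3
        exact h3
      rw [this]; exact ht'
    · apply Subtype.ext
      rw [pow_one, Subgroup.coe_pow]
      exact hpow c x hx
  have hTI : ∀ x ∈ D, ∀ y : M, y * x * y⁻¹ ∈ H' → y ∈ H' := by
    rintro x ⟨c, hc, hx⟩ y hy
    exact ti_tU h2 h hU hdim hs0 hs hH hscal hc hx y.2 hy
  let S : Subgroup M := L.subgroupOf M
  have hS : IsPGroup p S := by
    have h3 : IsPGroup p (L.subgroupOf M) := by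
      apply IsPGroup.comap_of_injective hpg _ M.subtype_injective
    exact h3
  have h5 := Cfsg.Agent.H880.pgroup_fixes (p := p) H' D hD hTI (s := ⟨s, hsM⟩) ⟨b, hb, hs'⟩ ⟨g, hg⟩ S hS
    (by
      change g * s * g⁻¹ ∈ L
      exact Subgroup.subset_closure (by simp)) ⟨t, htM⟩ (by
      change t ∈ L
      exact Subgroup.subset_closure (by simp))
  have h6 : ((⟨t, htM⟩ * ⟨g, hg⟩ : M) : M ⧸ H') = ((⟨g, hg⟩ : M) : M ⧸ H') := h5
  rw [eq_comm, QuotientGroup.eq] at h6
  have h7 : (⟨g, hg⟩ : M)⁻¹ ∈ H' := by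
    apply hTI ⟨t, htM⟩ ⟨a, ha, ht⟩
    rw [inv_inv]
    rwa [← mul_assoc] at h6
  have h8 := H'.inv_mem h7
  rw [inv_inv] at h8
  exact h8

/-- `u ⊗ w = a ⊗ w'`, `w ≠ 0`, forces `u ∈ ⟨a⟩`. -/
theorem mem_line_of_tn (h : TS A B Θ) {a u : U} (ha : a ≠ 0) {w w' : W} (hw : w ≠ 0)
    (huw : tn Θ u w = tn Θ a w') : ∃ c : F, u = c • a := by
  apply h.mem_line ha
  intro z hz
  have h3 := congrArg (ct Θ A z) huw
  rw [ct_tn, ct_tn, h.swap a z, hz, neg_zero, zero_smul] at h3
  have h4 := (smul_eq_zero.1 h3).resolve_right hw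
  rw [h.swap, h4, neg_zero]

/-- The action of an involution of `⟨t_a, s⟩` commuting with `t_a` and `s`. -/
theorem involution_action (h2 : (2 : F) ≠ 0)
    (h : TS A B Θ) [FiniteDimensional F W] [Nontrivial W]
    [FiniteDimensional F U] (hU : 3 ≤ Module.finrank F U)
    (hdim : 3 ≤ Module.finrank F W) {s₀ : W} (hs0 : s₀ ≠ 0) (hs : B s₀ s₀ = 0)
    (hH : ∀ g, InH Θ g → g ∈ M)
    (hscal : ∀ (x : U) (S : W →ₗ[F] W), x ≠ 0 → InAt Θ A M x S → ∃ c : F, S = c • LinearMap.id)
    {a : U} (ha : a ≠ 0) {t s : G} (ht : ∀ v, t • v = v + tn Θ a (ct Θ A a v))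
    (hti : ∀ v v' : V, f (s • v - v) (s • v' - v') = 0) {j : G}
    (hj : j ∈ Subgroup.closure ({t, s} : Set G)) (hj1 : j ≠ 1) (hjj : j * j = 1)
    (hjt : j * t = t * j) (hjs : j * s = s * j) (hjM : j ∈ M) :
    ∃ α : U →ₗ[F] U, (∀ u w, j • tn Θ u w = -tn Θ (α u) w) ∧ α a = a ∧ ∃ u, u ≠ 0 ∧ α u = -u := by
  obtain ⟨p, hp⟩ : ∃ p, A p a = 1 := by
    obtain ⟨y, hy⟩ : ∃ y, A a y ≠ 0 := by
      by_contra hc
      push Not at hc
      exact ha (h.ndA a hc)
    refine ⟨(-(A a y)⁻¹) • y, ?_⟩
    rw [map_smul, LinearMap.smul_apply, smul_eq_mul, h.swap y a]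
    field_simp
  have hjv : ∀ v : V, j • j • v = v := fun v => by rw [← mul_smul, hjj, one_smul]
  -- `X = im (s - 1)`
  let X : Submodule F V := LinearMap.range (gL s - LinearMap.id)
  have hXmem : ∀ v : V, s • v - v ∈ X := fun v => ⟨v, rfl⟩
  have hXti : ∀ x ∈ X, ∀ y ∈ X, f x y = 0 := by
    rintro _ ⟨v, rfl⟩ _ ⟨v', rfl⟩
    exact hti v v'
  have hXj : ∀ x ∈ X, j • x ∈ X := by
    rintro _ ⟨v, rfl⟩
    refine ⟨j • v, ?_⟩
    change s • j • v - j • v = j • (s • v - v)
    rw [smul_sub, ← mul_smul, ← mul_smul, hjs]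
  obtain ⟨ζ, hζdef⟩ : ∃ ζ : W →ₗ[F] W, ∀ w, ζ w = ct Θ A a (j • tn Θ p w) :=
    ⟨ct Θ A a ∘ₗ gL j ∘ₗ tnL Θ p, fun w => rfl⟩
  have hjta : ∀ v : V, j • tn Θ a (ct Θ A a v) = tn Θ a (ct Θ A a (j • v)) := by
    intro v
    have h3 : tn Θ a (ct Θ A a v) = t • v - v := by rw [ht]; abel
    have h4 : tn Θ a (ct Θ A a (j • v)) = t • j • v - j • v := by rw [ht]; abel
    rw [h3, h4, smul_sub, ← mul_smul, ← mul_smul, hjt]
  have hjζ : ∀ w, j • tn Θ a w = tn Θ a (ζ w) := by
    intro w
    have h3 := hjta (tn Θ p w)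
    rwa [ct_tn, hp, one_smul, ← hζdef] at h3
  obtain ⟨α, hα⟩ := stab_inH h2 h hU hdim hs0 hs hH hscal ha hjM hjζ
  have hctj : ∀ v : V, ct Θ A a (j • v) = ζ (ct Θ A a v) := by
    intro v
    apply tn_injective h ha
    rw [← hjta, hjζ]
  have hBζ : ∀ w w', B (ζ w) (ζ w') = B w w' := by
    intro w w'
    have h3 : ct Θ A a (tn Θ p w) = w := by rw [ct_tn, hp, one_smul]
    have h4 := form_smul j (tn Θ p w) (tn Θ a w')
    rw [hjζ, h.form_ct, h.form_ct, hctj, h3] at h4
    exact h4
  have hζζ : ∀ w, ζ (ζ w) = w := by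
    intro w
    apply tn_injective h ha
    rw [← hjζ, ← hjζ, hjv]
  have hζinj : ∀ w, ζ w = 0 → w = 0 := fun w hw => by rw [← hζζ w, hw, map_zero]
  have hαa : α a = a := by
    obtain ⟨w, hw⟩ := exists_ne (0 : W)
    have h3 : tn Θ (α a - a) (ζ w) = 0 := by rw [tn_sub_left, ← hα, hjζ, sub_self]
    have h4 := (tn_eq_zero h h3).resolve_right (fun h0 => hw (hζinj w h0))
    exact sub_eq_zero.1 h4
  have hαα : ∀ u, α (α u) = u := by
    intro u
    obtain ⟨w, hw⟩ := exists_ne (0 : W)
    have h3 : tn Θ (α (α u) - u) w = 0 := by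
      have h4 := hjv (tn Θ u w)
      rw [hα, hα, hζζ] at h4
      rw [tn_sub_left, h4, sub_self]
    exact sub_eq_zero.1 ((tn_eq_zero h h3).resolve_right hw)
  have hAα : ∀ u u', A (α u) (α u') = A u u' := by
    intro u u'
    obtain ⟨q, hq⟩ := exists_partner h.symB hs0
    have h4 := form_smul j (tn Θ u q) (tn Θ u' s₀)
    rw [hα, hα, h.form', h.form', hBζ, hq, mul_one, mul_one] at h4
    exact h4
  -- the range of `j - 1`
  have hrange : ∀ v : V, ∃ w, ∃ x ∈ X, j • v - v = tn Θ a w + x := by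
    have key : ∀ g ∈ Subgroup.closure ({t, s} : Set G), ∀ v : V, ∃ w, ∃ x ∈ X,
        g • v - v = tn Θ a w + x := by
      intro g hg
      induction hg using Subgroup.closure_induction with
      | mem g hg =>
        rcases hg with rfl | rfl
        · intro v
          exact ⟨ct Θ A a v, 0, X.zero_mem, by rw [ht]; abel⟩
        · intro v
          exact ⟨0, _, hXmem v, by rw [tn_zero_right, zero_add]⟩
      | one => intro v; exact ⟨0, 0, X.zero_mem, by rw [one_smul, tn_zero_right]; abel⟩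
      | mul x y _ _ hx hy =>
        intro v
        obtain ⟨w, z, hz, hwz⟩ := hx (y • v)
        obtain ⟨w', z', hz', hwz'⟩ := hy v
        refine ⟨w + w', z + z', X.add_mem hz hz', ?_⟩
        have e : (x * y) • v - v = (x • y • v - y • v) + (y • v - v) := by rw [mul_smul]; abel
        rw [e, hwz, hwz', tn_add_right]
        abel
      | inv x _ hx =>
        intro v
        obtain ⟨w, z, hz, hwz⟩ := hx (x⁻¹ • v)
        refine ⟨-w, -z, X.neg_mem hz, ?_⟩
        rw [smul_inv_smul] at hwz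
        have e : x⁻¹ • v - v = -(v - x⁻¹ • v) := by abel
        rw [e, hwz, tn_neg_right]
        abel
    exact key j hj
  have h22 : ∀ c : F, 2 * c = 0 → c = 0 := fun c hc => (mul_eq_zero.1 hc).resolve_left h2
  -- the main point
  have hstar : ∀ v : V, j • v = -v → (∀ w', ζ w' = -w' → f v (tn Θ a w') = 0) →
      ∃ w, v = tn Θ a w := by
    intro v hv hvw
    obtain ⟨w, x, hx, hwx⟩ := hrange v
    have e1 : v = tn Θ a (-(1 / 2 : F) • w) + (-(1 / 2 : F)) • x := by
      have h3 : (-2 : F) • v = tn Θ a w + x := by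
        rw [← hwx, hv]; module
      rw [tn_smul_right, ← smul_add, ← h3, smul_smul]
      have : (-(1 / 2 : F)) * (-2) = 1 := by field_simp
      rw [this, one_smul]
    set w₁ := -(1 / 2 : F) • w with hw₁
    set x₁ := (-(1 / 2 : F)) • x with hx₁def
    have hx₁ : x₁ ∈ X := X.smul_mem _ hx
    have e2 : -v = tn Θ a (ζ w₁) + j • x₁ := by
      rw [← hv]
      conv_lhs => rw [e1]
      rw [smul_add', hjζ]
    set w₂ := (1 / 2 : F) • (w₁ - ζ w₁) with hw₂
    set x₂ := (1 / 2 : F) • (x₁ - j • x₁) with hx₂def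
    have hx₂ : x₂ ∈ X := X.smul_mem _ (X.sub_mem hx₁ (hXj _ hx₁))
    have e3 : v = tn Θ a w₂ + x₂ := by
      have h3 : (2 : F) • v = tn Θ a (w₁ - ζ w₁) + (x₁ - j • x₁) := by
        rw [two_smul]
        nth_rewrite 1 [e1]
        have : v = - -v := by rw [neg_neg]
        nth_rewrite 1 [this]
        rw [e2, tn_sub_right]
        abel
      rw [hw₂, hx₂def, tn_smul_right, ← smul_add, ← h3, smul_smul]
      have : (1 / 2 : F) * 2 = 1 := by field_simp
      rw [this, one_smul]
    have hζw₂ : ζ w₂ = -w₂ := by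
      rw [hw₂, map_smul, map_sub, hζζ]
      module
    have hjx₂ : j • x₂ = -x₂ := by
      have h3 : x₂ = v - tn Θ a w₂ := by rw [e3]; abel
      rw [h3, smul_sub, hv, hjζ, hζw₂, tn_neg_right]
      abel
    have hx₂0 : x₂ = 0 := by
      have h5 : ∀ w', f x₂ (tn Θ a w') = 0 := by
        intro w'
        have h6 : f x₂ (tn Θ a w') = -f x₂ (tn Θ a (ζ w')) := by
          rw [← form_smul j, hjx₂, hjζ, sympForm_neg_left]
        have h7 : f x₂ (tn Θ a (w' - ζ w')) = 0 := by
          have h8 : x₂ = v - tn Θ a w₂ := by rw [e3]; abel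
          rw [h8, sympForm_sub_left, h.form' a, h.alt, zero_mul, sub_zero]
          apply hvw
          rw [map_sub, hζζ]
          abel
        rw [tn_sub_right, sympForm_sub_right] at h7
        apply h22
        linear_combination h6 + h7
      apply eq_zero_of_forall_sympForm_right
      intro v'
      obtain ⟨w', x', hx', hwx'⟩ := hrange v'
      have h6 : f x₂ (j • v') = -f x₂ v' := by
        have h9 := form_smul j x₂ (j • v')
        rw [hjx₂, hjv, sympForm_neg_left] at h9
        rw [← h9]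
      have h7 : f x₂ (j • v' - v') = 0 := by
        rw [hwx', sympForm_add_right, h5, hXti _ hx₂ _ hx', add_zero]
      rw [sympForm_sub_right, h6] at h7
      apply h22
      linear_combination -h7
    exact ⟨w₂, by rw [e3, hx₂0, add_zero]⟩
  -- `ζ ≠ 1`
  obtain ⟨wm, hwm0, hwm⟩ : ∃ w, w ≠ 0 ∧ ζ w = -w := by
    by_contra hcon
    push Not at hcon
    have h3 : ∀ w, ζ w = w := by
      intro w
      by_contra hw
      apply hcon (w - ζ w) (fun h0 => hw (sub_eq_zero.1 h0).symm)
      rw [map_sub, hζζ]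
      abel
    apply hj1
    apply Subtype.ext
    apply Matrix.mulVec_injective
    funext v
    rw [Submonoid.coe_one, Matrix.one_mulVec]
    change j • v = v
    have h4 : j • (v - j • v) = -(v - j • v) := by
      rw [smul_sub, hjv]; abel
    obtain ⟨w, hw⟩ := hstar _ h4 (fun w' hw' => by
      by_cases hw0 : w' = 0
      · rw [hw0, tn_zero_right, sympForm_zero_right]
      · exact absurd hw' (hcon w' hw0))
    rw [hw, hjζ, h3] at h4
    have h5 : (2 : F) • tn Θ a w = 0 := by
      rw [two_smul]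
      nth_rewrite 1 [h4]
      abel
    have h6 := (smul_eq_zero.1 h5).resolve_left h2
    rw [h6, sub_eq_zero] at hw
    exact hw.symm
  have hline : ∀ u, α u = u → A u a = 0 → ∃ c : F, u = c • a := by
    intro u hu hua
    obtain ⟨w, hw⟩ := hstar (tn Θ u wm) (by rw [hα, hu, hwm, tn_neg_right]) (fun w' _ => by
      rw [h.form', hua, zero_mul])
    exact mem_line_of_tn h ha hwm0 hw
  -- `α ≠ 1`
  obtain ⟨um, hum0, hum⟩ : ∃ u, u ≠ 0 ∧ α u = -u := by
    by_contra hcon
    push Not at hcon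
    have h3 : ∀ u, α u = u := by
      intro u
      by_contra hu
      apply hcon (u - α u) (fun h0 => hu (sub_eq_zero.1 h0).symm)
      rw [map_sub, hαα]
      abel
    have h4 : LinearMap.ker (A a) ≤ Submodule.span F {a} := by
      intro u hu
      rw [LinearMap.mem_ker] at hu
      obtain ⟨c, hc⟩ := hline u (h3 u) (by rw [h.swap, hu, neg_zero])
      rw [hc]
      exact Submodule.smul_mem _ _ (Submodule.mem_span_singleton_self a)
    have h5 := (Submodule.finrank_mono h4).trans (finrank_span_le_card ({a} : Set U))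
    have h6 := (A a).finrank_range_add_finrank_ker
    have h7 : Module.finrank F (LinearMap.range (A a)) ≤ 1 := by
      refine (Submodule.finrank_le _).trans ?_
      rw [Module.finrank_self]
    simp only [Set.toFinset_singleton, Finset.card_singleton] at h5
    omega
  have huma : A um a = 0 := by
    have h3 := hAα um a
    rw [hum, hαa, map_neg, LinearMap.neg_apply] at h3
    apply h22
    linear_combination -h3
  have hζ : ∀ w, ζ w = -w := by
    have h3 : ∀ w, ζ w = w → w = 0 := by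
      intro w hw
      by_contra hw0
      obtain ⟨w', hw'⟩ := hstar (tn Θ um w) (by rw [hα, hum, hw, tn_neg_left]) (fun w' _ => by
        rw [h.form', huma, zero_mul])
      obtain ⟨c, hc⟩ := mem_line_of_tn h ha hw0 hw'
      have h4 : um = -um := by
        rw [← hum]
        conv_lhs => rw [hc]
        rw [hum]
        have h5 : α um = um := by rw [hc, map_smul, hαa]
        rw [hum] at h5
        rw [h5, hc]
      have h5 : (2 : F) • um = 0 := by
        rw [two_smul]
        nth_rewrite 1 [h4]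
        abel
      exact hum0 ((smul_eq_zero.1 h5).resolve_left h2)
    intro w
    have h4 := h3 (w + ζ w) (by rw [map_add, hζζ]; abel)
    exact eq_neg_of_add_eq_zero_right h4
  refine ⟨α, fun u w => ?_, hαa, um, hum0, hum⟩
  rw [hα, hζ, tn_neg_right]

/-- The linear representation of the symplectic group. -/
noncomputable def gLhom : G →* Module.End F (Fin m ⊕ Fin m → F) where
  toFun g := gL g
  map_one' := by
    apply LinearMap.ext
    intro v
    exact one_smul _ _
  map_mul' g k := by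
    apply LinearMap.ext
    intro v
    exact mul_smul g k v

theorem gLhom_apply (g : G) (v : V) : gLhom g v = g • v := rfl

theorem ext_smul {g k : G} (hgk : ∀ v : V, g • v = k • v) : g = k := by
  apply Subtype.ext
  apply Matrix.mulVec_injective
  funext v
  exact hgk v

theorem gLhom_injective : Function.Injective (gLhom : G →* Module.End F (Fin m ⊕ Fin m → F)) := by
  intro g k hgk
  apply ext_smul
  intro v
  exact congrArg (fun T : Module.End F (Fin m ⊕ Fin m → F) => T v) hgk

/-- Two commuting elements of order dividing `p` generate a `p`-group. -/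
theorem isPGroup_pair {Γ : Type*} [Group Γ] {p : ℕ} {x y : Γ} (hx : x ^ p = 1)
    (hy : y ^ p = 1) (hxy : x * y = y * x) : IsPGroup p (Subgroup.closure ({x, y} : Set Γ)) := by
  have key : ∀ z : Γ, z ^ p = 1 → IsPGroup p (Subgroup.zpowers z) := by
    rintro z hz ⟨_, n, rfl⟩
    refine ⟨1, ?_⟩
    apply Subtype.ext
    change ((z ^ n) ^ p ^ 1 : Γ) = 1
    rw [pow_one, ← zpow_natCast, ← zpow_mul, mul_comm, zpow_mul, zpow_natCast, hz, one_zpow]
  have h1 : Subgroup.closure ({x, y} : Set Γ) = Subgroup.zpowers x ⊔ Subgroup.zpowers y := by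
    rw [Subgroup.zpowers_eq_closure, Subgroup.zpowers_eq_closure, ← Subgroup.closure_union]
    rfl
  rw [h1]
  refine IsPGroup.to_sup_of_normal_right' (key x hx) (key y hy) ?_
  rw [Subgroup.zpowers_le]
  rw [Subgroup.mem_normalizer_iff]
  intro z
  constructor
  · rintro ⟨n, rfl⟩
    refine ⟨n, ?_⟩
    have : Commute x y := hxy
    have h3 := this.zpow_right n
    change y ^ n = x * y ^ n * x⁻¹
    rw [h3.eq, mul_inv_cancel_right]
  · rintro ⟨n, hn⟩
    refine ⟨n, ?_⟩
    have : Commute x y := hxy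
    have h3 := this.zpow_right n
    change y ^ n = z
    have h4 : z = x⁻¹ * (x * z * x⁻¹) * x := by group
    rw [h4, ← hn]
    change y ^ n = x⁻¹ * y ^ n * x
    rw [mul_assoc, ← h3.eq, inv_mul_cancel_left]

theorem pow_char_tU {p : ℕ} [CharP F p] (h : TS A B Θ) {c : U} {r : G}
    (hr : ∀ v, r • v = v + tn Θ c (ct Θ A c v)) : r ^ p = 1 := by
  have h3 : ∀ (n : ℕ) (v : V), (r ^ n) • v = v + (n : F) • tn Θ c (ct Θ A c v) := by
    intro n
    induction n with
    | zero => intro v; rw [pow_zero, one_smul, Nat.cast_zero, zero_smul, add_zero]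
    | succ n ih =>
      intro v
      rw [pow_succ, mul_smul, ih, hr, map_add, ct_tn, h.alt, zero_smul, add_zero, Nat.cast_succ,
        add_smul, one_smul]
      abel
  apply ext_smul
  intro v
  have h4 := h3 p v
  rw [CharP.cast_eq_zero, zero_smul, add_zero] at h4
  rw [h4, one_smul]

/-- **Overgroups of `Sp(U) ⊗ O(W)`** (scalar alternative): they respect the tensor structure. -/
theorem inH_of_mem [Finite F] {p : ℕ} [hp : Fact p.Prime] [CharP F p] (hp2 : p ≠ 2)
    (h : TS A B Θ) [FiniteDimensional F W] [Nontrivial W]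
    [FiniteDimensional F U] (hU : 3 ≤ Module.finrank F U)
    (hdim : 3 ≤ Module.finrank F W) {s₀ : W} (hs0 : s₀ ≠ 0) (hs : B s₀ s₀ = 0)
    (hH : ∀ g, InH Θ g → g ∈ M)
    (hscal : ∀ (x : U) (S : W →ₗ[F] W), x ≠ 0 → InAt Θ A M x S → ∃ c : F, S = c • LinearMap.id)
    {g : G} (hg : g ∈ M) : InH Θ g := by
  by_contra hgH
  have h2 : (2 : F) ≠ 0 := by
    intro h0
    have h3 : p ∣ 2 := (CharP.cast_eq_zero_iff F p 2).1 (by exact_mod_cast h0)
    exact hp2 ((Nat.prime_dvd_prime_iff_eq hp.out Nat.prime_two).1 h3)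
  have : Nontrivial U := Module.nontrivial_of_finrank_pos (R := F) (by omega)
  have : Finite G := inferInstance
  obtain ⟨a, ha⟩ := exists_ne (0 : U)
  obtain ⟨t, htH, htv'⟩ := h.exists_tU a 1
  have ht : ∀ v, t • v = v + tn Θ a (ct Θ A a v) := fun v => by rw [htv', one_smul]
  have htM : t ∈ M := hH t htH
  have hquad : ∀ k : G, (gLhom (k * t * k⁻¹) - 1) ^ 2 = (0 : Module.End F (Fin m ⊕ Fin m → F)) := by
    intro k
    have h3 : ∀ v : V, (k * t * k⁻¹) • v = v + k • tn Θ a (ct Θ A a (k⁻¹ • v)) := by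
      intro v
      rw [mul_smul, mul_smul, ht, smul_add', smul_inv_smul]
    apply LinearMap.ext
    intro v
    rw [pow_two, Module.End.mul_apply, LinearMap.sub_apply, LinearMap.sub_apply, Module.End.one_apply,
      Module.End.one_apply, gLhom_apply, gLhom_apply, h3 v, add_sub_cancel_left, h3, inv_smul_smul,
      ct_tn, h.alt, zero_smul, tn_zero_right, smul_zero, add_zero, sub_self, LinearMap.zero_apply]
  -- the conjugate
  set s := g * t * g⁻¹ with hsdef
  have hsM : s ∈ M := M.mul_mem (M.mul_mem hg htM) (M.inv_mem hg)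
  have hsv : ∀ v : V, s • v = v + g • tn Θ a (ct Θ A a (g⁻¹ • v)) := by
    intro v
    rw [hsdef, mul_smul, mul_smul, ht, smul_add', smul_inv_smul]
  have hnp : ¬ IsPGroup p (Subgroup.closure ({t, s} : Set G)) := fun hpg =>
    hgH (inH_of_pgroup h2 h hU hdim hs0 hs hH hscal ha ha ht ht hg hpg)
  have htq : (gLhom t - 1) ^ 2 = (0 : Module.End F (Fin m ⊕ Fin m → F)) := by
    have := hquad 1
    rwa [one_mul, inv_one, mul_one] at this
  obtain ⟨j, hj, hj1, hjj, hjt, hjs⟩ := QuadPair.exists_involution hp2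
    (gLhom : G →* Module.End F (Fin m ⊕ Fin m → F)) gLhom_injective htq (hquad g) hnp
  have hjM : j ∈ M := by
    have : Subgroup.closure ({t, g * t * g⁻¹} : Set G) ≤ M := by
      rw [Subgroup.closure_le]
      rintro x (rfl | rfl)
      · exact htM
      · exact hsM
    exact this hj
  have hti : ∀ v v' : V, f (s • v - v) (s • v' - v') = 0 := by
    intro v v'
    rw [hsv, hsv, add_sub_cancel_left, add_sub_cancel_left, form_smul, h.form', h.alt, zero_mul]
  obtain ⟨α, hα, hαa, um, hum0, hum⟩ := involution_action h2 h hU hdim hs0 hs hH hscal ha ht hti hj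
    hj1 hjj hjt hjs hjM
  -- the same from the point of view of `g`
  have hti' : ∀ v v' : V, f ((g⁻¹ * t * g) • v - v) ((g⁻¹ * t * g) • v' - v') = 0 := by
    intro v v'
    have h3 : ∀ v : V, (g⁻¹ * t * g) • v = v + g⁻¹ • tn Θ a (ct Θ A a (g • v)) := by
      intro v
      rw [mul_smul, mul_smul, ht, smul_add', inv_smul_smul]
    rw [h3, h3, add_sub_cancel_left, add_sub_cancel_left, form_smul, h.form', h.alt, zero_mul]
  have hj' : g⁻¹ * j * g ∈ Subgroup.closure ({t, g⁻¹ * t * g} : Set G) := by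
    have h3 : (Subgroup.closure ({t, g * t * g⁻¹} : Set G)).map (MulAut.conj g⁻¹).toMonoidHom =
        Subgroup.closure ({t, g⁻¹ * t * g} : Set G) := by
      rw [MonoidHom.map_closure, Set.image_pair]
      congr 1
      have e1 : (MulAut.conj g⁻¹).toMonoidHom t = g⁻¹ * t * g := by
        change g⁻¹ * t * g⁻¹⁻¹ = _
        rw [inv_inv]
      have e2 : (MulAut.conj g⁻¹).toMonoidHom (g * t * g⁻¹) = t := by
        change g⁻¹ * (g * t * g⁻¹) * g⁻¹⁻¹ = _
        group
      rw [e1, e2, Set.pair_comm]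
    rw [← h3]
    refine ⟨j, hj, ?_⟩
    change g⁻¹ * j * g⁻¹⁻¹ = _
    rw [inv_inv]
  obtain ⟨α', hα', hα'a, -⟩ := involution_action h2 h hU hdim hs0 hs hH hscal ha ht hti' hj'
    (fun h0 => hj1 (by
      have : j = g * (g⁻¹ * j * g) * g⁻¹ := by group
      rw [this, h0]; group))
    (by
      have : g⁻¹ * j * g * (g⁻¹ * j * g) = g⁻¹ * (j * j) * g := by group
      rw [this, hjj]; group)
    (by
      have e1 : g⁻¹ * j * g * t = g⁻¹ * (j * (g * t * g⁻¹)) * g := by group
      have e2 : t * (g⁻¹ * j * g) = g⁻¹ * ((g * t * g⁻¹) * j) * g := by group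
      rw [e1, e2, hjs])
    (by
      have e1 : g⁻¹ * j * g * (g⁻¹ * t * g) = g⁻¹ * (j * t) * g := by group
      have e2 : g⁻¹ * t * g * (g⁻¹ * j * g) = g⁻¹ * (t * j) * g := by group
      rw [e1, e2, hjt])
    (M.mul_mem (M.mul_mem (M.inv_mem hg) hjM) hg)
  have hjg : ∀ w, j • g • tn Θ a w = -(g • tn Θ a w) := by
    intro w
    have h3 := hα' a w
    rw [hα'a, mul_smul, mul_smul, inv_smul_eq_iff, smul_neg] at h3
    exact h3
  have hperp : ∀ w w', f (g • tn Θ a w) (tn Θ um w') = 0 := by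
    intro w w'
    have h3 := form_smul j (g • tn Θ a w) (tn Θ um w')
    rw [hjg, hα, hum, tn_neg_left, neg_neg, sympForm_neg_left] at h3
    apply (mul_eq_zero.1 (?_ : (2 : F) * _ = 0)).resolve_left h2
    linear_combination -h3
  -- `t_um` commutes with `s`
  obtain ⟨r, -, hrv'⟩ := h.exists_tU um 1
  have hr : ∀ v, r • v = v + tn Θ um (ct Θ A um v) := fun v => by rw [hrv', one_smul]
  have hc1 : ∀ w, ct Θ A um (g • tn Θ a w) = 0 := by
    intro w
    apply h.symB.nd
    intro w'
    rw [← h.form_ct, hperp]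
  have hc2 : ∀ w, ct Θ A a (g⁻¹ • tn Θ um w) = 0 := by
    intro w
    apply h.symB.nd
    intro w'
    rw [← h.form_ct, ← form_smul g, smul_inv_smul, sympForm_swap, hperp, neg_zero]
  have hcomm : r * s = s * r := by
    apply ext_smul
    intro v
    have e1 : (r * s) • v = r • (s • v) := mul_smul _ _ _
    have e2 : (s * r) • v = s • (r • v) := mul_smul _ _ _
    rw [e1, e2, hr (s • v), hsv (r • v), hr v, hsv v, map_add, hc1, smul_add', map_add, hc2,
      add_zero, add_zero]
    abel
  have hspow : s ^ p = 1 := by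
    rw [hsdef, conj_pow, pow_char_tU h ht, mul_one, mul_inv_cancel]
  exact hgH (inH_of_pgroup h2 h hU hdim hs0 hs hH hscal hum0 ha hr ht hg
    (isPGroup_pair (pow_char_tU h hr) hspow hcomm))

end Cfsg.Agent.H879.TenS
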