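import Cfsg.Agent.H879.TenR

/-!
# Overgroups of `Sp(U) ⊗ O(W)`: the stabiliser of `a ⊗ W` respects the tensor structure (helper879)
-/

set_option autoImplicit false
set_option linter.unusedSimpArgs false
open Cfsg
open scoped Matrix TensorProduct
open Cfsg.Agent.ClassicalGeometry.SympBasic Cfsg.Agent.ClassicalGeometry.SympSiegel

namespace Cfsg.Agent.H879.TenS

open Cfsg.Agent.H875 Cfsg.Agent.H875.Ten

variable {F : Type*} [Field F] {m : ℕ}

local notation "V" => (Fin m ⊕ Fin m → F)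
local notation "G" => Matrix.symplecticGroup (Fin m) F
local notation "f" => sympForm m F

variable {U W : Type*} [AddCommGroup U] [Module F U] [AddCommGroup W] [Module F W]
variable {A : LinearMap.BilinForm F U} {B : LinearMap.BilinForm F W}
  {Θ : U ⊗[F] W ≃ₗ[F] (Fin m ⊕ Fin m → F)} {M : Subgroup (Matrix.symplecticGroup (Fin m) F)}

/-- The contraction `u ⊗ w ↦ B(w,x) u`. -/
noncomputable def rt (Θ : U ⊗[F] W ≃ₗ[F] (Fin m ⊕ Fin m → F)) (B : LinearMap.BilinForm F W)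
    (x : W) : (Fin m ⊕ Fin m → F) →ₗ[F] U :=
  (TensorProduct.rid F U).toLinearMap ∘ₗ TensorProduct.map LinearMap.id (B.flip x) ∘ₗ
    Θ.symm.toLinearMap

theorem rt_tn (x w : W) (u : U) : rt Θ B x (tn Θ u w) = B w x • u := by
  simp [rt, tn]

theorem rt_ct (x : W) (u : U) (v : V) : A (rt Θ B x v) u = B (ct Θ A u v) x := by
  refine tn_induction (Θ := Θ) (P := fun v => A (rt Θ B x v) u = B (ct Θ A u v) x) ?_ ?_ ?_ v
  · simp
  · intro u' w
    rw [rt_tn, ct_tn, map_smul, map_smul, LinearMap.smul_apply, LinearMap.smul_apply, smul_eq_mul,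
      smul_eq_mul, mul_comm]
  · intro a b ha hb
    rw [map_add, map_add, map_add, map_add, LinearMap.add_apply, LinearMap.add_apply, ha, hb]

/-- `w ↦ u ⊗ w` as a linear map. -/
noncomputable def tnL (Θ : U ⊗[F] W ≃ₗ[F] (Fin m ⊕ Fin m → F)) (u : U) :
    W →ₗ[F] (Fin m ⊕ Fin m → F) where
  toFun w := tn Θ u w
  map_add' := tn_add_right u
  map_smul' c w := tn_smul_right c u w

theorem tnL_apply (u : U) (w : W) : tnL Θ u w = tn Θ u w := rfl

/-- The action of a group element as a linear map. -/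
noncomputable def gL (g : G) : V →ₗ[F] V where
  toFun v := g • v
  map_add' := smul_add' g
  map_smul' c v := by rw [RingHom.id_apply]; exact (smul_comm g c v)

theorem gL_apply (g : G) (v : V) : gL g v = g • v := rfl

/-- Existence of adjoints. -/
theorem exists_adj (hB : SymB B) [FiniteDimensional F W] (ω : W →ₗ[F] W) :
    ∃ ω' : W →ₗ[F] W, ∀ x y, B (ω' x) y = B x (ω y) := by
  have hnd : B.Nondegenerate := by
    refine ⟨fun x hx => hB.nd x hx, fun x hx => hB.nd x fun y => by rw [hB.symm]; exact hx y⟩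
  refine ⟨(B.toDual hnd).symm.toLinearMap ∘ₗ
    { toFun := fun x => (B x) ∘ₗ ω, map_add' := ?_, map_smul' := ?_ }, fun x y => ?_⟩
  · intro x y; ext w; simp
  · intro c x; ext w; simp
  · have := LinearMap.BilinForm.apply_toDual_symm_apply (B := B) (hB := hnd) ((B x) ∘ₗ ω) y
    simp

theorem tn_injective (h : TS A B Θ) {u : U} (hu : u ≠ 0) {w w' : W} (hw : tn Θ u w = tn Θ u w') :
    w = w' := by
  obtain ⟨z, hz⟩ : ∃ z, A u z ≠ 0 := by
    by_contra hc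
    push Not at hc
    exact hu (h.ndA u hc)
  have h1 := congrArg (ct Θ A z) hw
  rw [ct_tn, ct_tn] at h1
  exact smul_right_injective W hz h1

/-- The restriction of `g` to `a ⊗ W` is a similitude. -/
theorem exists_simil (h : TS A B Θ) [FiniteDimensional F W] [Nontrivial W]
    (hH : ∀ g, InH Θ g → g ∈ M)
    (hscal : ∀ (x : U) (S : W →ₗ[F] W), x ≠ 0 → InAt Θ A M x S → ∃ c : F, S = c • LinearMap.id)
    {a : U} (ha : a ≠ 0) {g : G} (hg : g ∈ M) {ζ : W →ₗ[F] W}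
    (hgζ : ∀ w, g • tn Θ a w = tn Θ a (ζ w)) :
    ∃ (c : F) (ζ' : W →ₗ[F] W), c ≠ 0 ∧ (∀ x y, B (ζ' x) y = B x (ζ y)) ∧ (∀ w, ζ (ζ' w) = c • w) ∧
      (∀ w, ζ' (ζ w) = c • w) ∧ (∀ w, g⁻¹ • tn Θ a w = tn Θ a (c⁻¹ • ζ' w)) ∧
      (∀ v, ct Θ A a (g • v) = c⁻¹ • ζ (ct Θ A a v)) := by
  obtain ⟨ζ', hζ'⟩ := exists_adj h.symB ζ
  have h1 : ∀ v, ct Θ A a (g⁻¹ • v) = ζ' (ct Θ A a v) := fun v => h.extW fun w => by
    rw [h.ct_inv hgζ, hζ']
  obtain ⟨t, ht, htv⟩ := h.exists_tU a 1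
  obtain ⟨c, hc⟩ := hscal a (ζ ∘ₗ ζ') ha ⟨g * t * g⁻¹, M.mul_mem (M.mul_mem hg (hH t ht))
    (M.inv_mem hg), fun v => by
      rw [mul_smul, mul_smul, htv, smul_add', smul_inv_smul, one_smul, h1, hgζ]
      rfl⟩
  have hc1 : ∀ w, ζ (ζ' w) = c • w := fun w => by
    have := congrArg (fun L : W →ₗ[F] W => L w) hc
    exact this
  have hinj : ∀ w, ζ w = 0 → w = 0 := by
    intro w hw
    have h3 := hgζ w
    rw [hw, tn_zero_right, smul_eq_iff_eq_inv_smul, smul_zero] at h3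
    exact tn_injective h ha (h3.trans (tn_zero_right a).symm)
  have hc0 : c ≠ 0 := by
    rintro rfl
    obtain ⟨w, hw⟩ := exists_ne (0 : W)
    apply hw
    apply hinj
    apply h.symB.nd
    intro y
    rw [h.symB.symm, ← hζ', hinj (ζ' y) (by rw [hc1, zero_smul]), map_zero, LinearMap.zero_apply]
  have hc2 : ∀ w, ζ' (ζ w) = c • w := fun w => by
    have h4 : ζ (ζ' (ζ w) - c • w) = 0 := by rw [map_sub, hc1, map_smul, sub_self]
    exact sub_eq_zero.1 (hinj _ h4)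
  refine ⟨c, ζ', hc0, hζ', hc1, hc2, fun w => ?_, fun v => ?_⟩
  · rw [inv_smul_eq_iff, hgζ, map_smul, hc1, smul_smul, inv_mul_cancel₀ hc0, one_smul]
  · have h5 := h1 (g • v)
    rw [inv_smul_smul] at h5
    rw [h5, hc1, smul_smul, inv_mul_cancel₀ hc0, one_smul]

/-- Step A: contractions of `g (b₁ ⊗ x)` with vectors of `a^⊥`. -/
theorem ct_image (h2 : (2 : F) ≠ 0) (h : TS A B Θ) [FiniteDimensional F W] [Nontrivial W]
    (hdim : 3 ≤ Module.finrank F W) {s₀ : W} (hs0 : s₀ ≠ 0) (hs : B s₀ s₀ = 0)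
    (hH : ∀ g, InH Θ g → g ∈ M)
    (hscal : ∀ (x : U) (S : W →ₗ[F] W), x ≠ 0 → InAt Θ A M x S → ∃ c : F, S = c • LinearMap.id)
    {a : U} (ha : a ≠ 0) {g : G} (hg : g ∈ M) {ζ : W →ₗ[F] W}
    (hgζ : ∀ w, g • tn Θ a w = tn Θ a (ζ w)) {b b₁ : U} (hab : A a b = 0) (hab₁ : A a b₁ = 0)
    (hb₁ : ∀ c : F, b₁ ≠ c • a) : ∃ l : F, ∀ x, ct Θ A b (g • tn Θ b₁ x) = l • ζ x := by
  obtain ⟨c, ζ', hc0, hadj, hc1, hc2, hginv, hctg⟩ := exists_simil h hH hscal ha hg hgζ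
  have hb₁a : A b₁ a = 0 := by rw [h.swap, hab₁, neg_zero]
  obtain ⟨e, he, hev⟩ := InR_e h hH hab 1
  obtain ⟨t, ht, htv⟩ := h.exists_tU b₁ 1
  -- `δ x = c⁻¹ ζ' ct_b (g (b₁ ⊗ x))`
  let δ : W →ₗ[F] W := c⁻¹ • (ζ' ∘ₗ ct Θ A b ∘ₗ gL g ∘ₗ tnL Θ b₁)
  let η : W →ₗ[F] W := c⁻¹ • (ct Θ A b₁ ∘ₗ gL g⁻¹ ∘ₗ tnL Θ b ∘ₗ ζ)
  have hδ : ∀ x, δ x = c⁻¹ • ζ' (ct Θ A b (g • tn Θ b₁ x)) := fun x => rfl
  have hη : ∀ x, η x = c⁻¹ • ct Θ A b₁ (g⁻¹ • tn Θ b (ζ x)) := fun x => rfl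
  have hadj2 : ∀ x y, B (-η x) y = B x (δ y) := by
    intro x y
    have e1 : B (ct Θ A b₁ (g⁻¹ • tn Θ b (ζ x))) y = -B (ζ' (ct Θ A b (g • tn Θ b₁ y))) x := by
      rw [← h.form_ct, ← form_smul g, smul_inv_smul, h.form_ct', hadj]
    have e2 : B (η x) y = c⁻¹ * B (ct Θ A b₁ (g⁻¹ • tn Θ b (ζ x))) y := by
      rw [hη]
      simp only [LinearMap.map_smul, LinearMap.smul_apply, smul_eq_mul]
    have e3 : B x (δ y) = c⁻¹ * B (ζ' (ct Θ A b (g • tn Θ b₁ y))) x := by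
      rw [hδ, h.symB.symm]
      simp only [LinearMap.map_smul, LinearMap.smul_apply, smul_eq_mul]
    rw [LinearMap.map_neg, LinearMap.neg_apply, e2, e1, e3]
    ring
  -- the conjugate `E`
  have hE : ∀ v, (g⁻¹ * e * g) • v = v + g⁻¹ • tn Θ b (c⁻¹ • ζ (ct Θ A a v)) +
      tn Θ a (c⁻¹ • ζ' (ct Θ A b (g • v))) := by
    intro v
    rw [mul_smul, mul_smul, hev, smul_add', smul_add', smul_add', inv_smul_smul, hctg, hginv]
    simp only [LinearMap.smul_apply, LinearMap.id_apply, LinearMap.zero_apply, one_smul,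
      tn_zero_right, smul_zero, add_zero]
  have hca : ∀ y, ct Θ A a (g⁻¹ • tn Θ b y) = 0 := by
    intro y
    have h5 := hctg (g⁻¹ • tn Θ b y)
    rw [smul_inv_smul, ct_tn, h.swap b a, hab, neg_zero, zero_smul] at h5
    have h6 : c⁻¹ • ζ' (c • (c⁻¹ • ζ (ct Θ A a (g⁻¹ • tn Θ b y)))) = 0 := by
      rw [← h5, smul_zero, map_zero, smul_zero]
    rw [smul_smul, mul_inv_cancel₀ hc0, one_smul, hc2, smul_smul, inv_mul_cancel₀ hc0, one_smul] at h6
    exact h6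
  have hEM : g⁻¹ * e * g ∈ M := M.mul_mem (M.mul_mem (M.inv_mem hg) he) hg
  have htM : t ∈ M := hH t ht
  have hR : InR Θ A M a b₁ (-δ) η (δ ∘ₗ η) := by
    refine ⟨t * (g⁻¹ * e * g) * (g⁻¹ * e * g * t)⁻¹, M.mul_mem (M.mul_mem htM hEM)
      (M.inv_mem (M.mul_mem hEM htM)), fun v => ?_⟩
    obtain ⟨v, rfl⟩ : ∃ v', v = (g⁻¹ * e * g * t) • v' :=
      ⟨(g⁻¹ * e * g * t)⁻¹ • v, by rw [smul_inv_smul]⟩
    have htv' : ∀ v, t • v = v + tn Θ b₁ (ct Θ A b₁ v) := fun v => by rw [htv, one_smul]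
    have e1 : ct Θ A a (t • v) = ct Θ A a v := by
      rw [htv', map_add, ct_tn, hb₁a, zero_smul, add_zero]
    have e2 : (g⁻¹ * e * g) • t • v = v + tn Θ b₁ (ct Θ A b₁ v) +
        g⁻¹ • tn Θ b (c⁻¹ • ζ (ct Θ A a v)) + (tn Θ a (c⁻¹ • ζ' (ct Θ A b (g • v))) +
          tn Θ a (δ (ct Θ A b₁ v))) := by
      rw [hE, e1, hδ, htv', smul_add', map_add, map_add, smul_add, tn_add_right]
    have e3 : ct Θ A b₁ (g⁻¹ • tn Θ b (c⁻¹ • ζ (ct Θ A a v))) = η (ct Θ A a v) := by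
      rw [hη, tn_smul_right, smul_smul']
      exact LinearMap.map_smul _ _ _
    have e4 : ct Θ A a ((g⁻¹ * e * g) • t • v) = ct Θ A a v := by
      rw [e2]
      simp only [map_add, hca, ct_tn, h.alt, hb₁a, zero_smul, add_zero]
    have e5 : ct Θ A b₁ ((g⁻¹ * e * g) • t • v) = ct Θ A b₁ v + η (ct Θ A a v) := by
      rw [e2]
      simp only [map_add, e3, ct_tn, h.alt, hab₁, zero_smul, add_zero]
    have e6 : t • (g⁻¹ * e * g) • v = v + g⁻¹ • tn Θ b (c⁻¹ • ζ (ct Θ A a v)) +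
        tn Θ a (c⁻¹ • ζ' (ct Θ A b (g • v))) + tn Θ b₁ (ct Θ A b₁ v + η (ct Θ A a v)) := by
      rw [htv', hE]
      simp only [map_add, e3, ct_tn, hab₁, zero_smul, add_zero]
    rw [mul_smul (t * (g⁻¹ * e * g)), inv_smul_smul, mul_smul t, mul_smul (g⁻¹ * e * g) t, e6, e4, e5,
      e2]
    simp only [LinearMap.neg_apply, LinearMap.comp_apply, map_add, tn_add_right, tn_neg_right]
    abel
  obtain ⟨l, hl⟩ := scalar_of_InR h2 h hdim hs0 hs hH hscal ha hab₁ hb₁ (δ := -δ) (δ' := η)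
    (fun x y => by
      have := hadj2 x y
      rw [LinearMap.neg_apply, map_neg, ← this, map_neg, LinearMap.neg_apply, neg_neg]) hR
  refine ⟨-l, fun x => ?_⟩
  have h7 := congrArg (fun L : W →ₗ[F] W => ζ (L x)) hl
  simp only [LinearMap.neg_apply, LinearMap.smul_apply, LinearMap.id_apply, map_neg, map_smul, hδ,
    hc1, smul_smul, inv_mul_cancel₀ hc0, one_smul] at h7
  rw [neg_smul, ← h7, neg_neg]

/-- Steps B and C: the images `g (b ⊗ W)`, `b ∈ a^⊥`. -/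
theorem image_perp (h2 : (2 : F) ≠ 0) (h : TS A B Θ) [FiniteDimensional F W] [Nontrivial W]
    (hdim : 3 ≤ Module.finrank F W) {s₀ : W} (hs0 : s₀ ≠ 0) (hs : B s₀ s₀ = 0)
    (hH : ∀ g, InH Θ g → g ∈ M)
    (hscal : ∀ (x : U) (S : W →ₗ[F] W), x ≠ 0 → InAt Θ A M x S → ∃ c : F, S = c • LinearMap.id)
    {a : U} (ha : a ≠ 0) {g : G} (hg : g ∈ M) {ζ : W →ₗ[F] W}
    (hgζ : ∀ w, g • tn Θ a w = tn Θ a (ζ w)) {b : U} (hab : A a b = 0) :
    ∃ b' : U, ∀ x, g • tn Θ b x = tn Θ b' (ζ x) := by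
  by_cases hb : ∃ c : F, b = c • a
  · obtain ⟨c, rfl⟩ := hb
    exact ⟨c • a, fun x => by rw [tn_smul_left, smul_smul', hgζ, tn_smul_left]⟩
  push Not at hb
  obtain ⟨c, ζ', hc0, hadj, hc1, hc2, hginv, hctg⟩ := exists_simil h hH hscal ha hg hgζ
  have hba : A b a = 0 := by rw [h.swap, hab, neg_zero]
  have hca : ∀ x, ct Θ A a (g • tn Θ b x) = 0 := fun x => by
    rw [hctg, ct_tn, hba, zero_smul, map_zero, smul_zero]
  have hA : ∀ u, A a u = 0 → ∃ l : F, ∀ x, ct Θ A u (g • tn Θ b x) = l • ζ x := fun u hu =>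
    ct_image h2 h hdim hs0 hs hH hscal ha hg hgζ hu hab hb
  -- the vector `b'`
  obtain ⟨x₀, hx₀⟩ : ∃ x, ζ x ≠ 0 := by
    obtain ⟨w, hw⟩ := exists_ne (0 : W)
    refine ⟨w, fun h0 => hw ?_⟩
    have h3 := hc2 w
    rw [h0, map_zero] at h3
    exact (smul_eq_zero.1 h3.symm).resolve_left hc0
  obtain ⟨w₀, hw₀⟩ := exists_partner h.symB hx₀
  set b' : U := rt Θ B w₀ (g • tn Θ b x₀) with hb'
  have hb'a : A b' a = 0 := by rw [hb', rt_ct, hca, map_zero, LinearMap.zero_apply]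
  have hB : ∀ u, A a u = 0 → ∀ x, ct Θ A u (g • tn Θ b x) = ct Θ A u (tn Θ b' (ζ x)) := by
    intro u hu x
    obtain ⟨l, hl⟩ := hA u hu
    have h3 : A b' u = l := by
      rw [hb', rt_ct, hl, map_smul, LinearMap.smul_apply, h.symB.symm, hw₀, smul_eq_mul, mul_one]
    rw [hl, ct_tn, h3]
  -- the remaining component
  obtain ⟨p, hp⟩ : ∃ p, A p a = 1 := by
    obtain ⟨y, hy⟩ : ∃ y, A a y ≠ 0 := by
      by_contra hc
      push Not at hc
      exact ha (h.ndA a hc)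
    refine ⟨(-(A a y)⁻¹) • y, ?_⟩
    rw [map_smul, LinearMap.smul_apply, smul_eq_mul, h.swap y a]
    field_simp
  have hap : A a p = -1 := by rw [h.swap, hp]
  obtain ⟨ω, hω⟩ : ∃ ω : W →ₗ[F] W, ∀ x, ω x = -ct Θ A p (g • tn Θ b x) + A b' p • ζ x :=
    ⟨-(ct Θ A p ∘ₗ gL g ∘ₗ tnL Θ b) + A b' p • ζ, fun x => rfl⟩
  have hgb : ∀ x, g • tn Θ b x = tn Θ b' (ζ x) + tn Θ a (ω x) := by
    intro x
    apply h.extV
    intro u
    have h3 : A a (u - A u a • p - (0 : F) • p) = A a u + A u a := by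
      rw [map_sub, map_sub, map_smul, map_smul, hap, smul_eq_mul, smul_eq_mul]
      ring
    have h4 : A a (u + A a u • p) = 0 := by
      rw [map_add, map_smul, hap, smul_eq_mul]
      ring
    have h5 := hB _ h4 x
    rw [ct_add, ct_smul, ct_add, ct_smul] at h5
    rw [map_add]
    have h6 : ct Θ A u (tn Θ a (ω x)) = A a u • ω x := ct_tn _ _ _
    have h7 : ct Θ A p (tn Θ b' (ζ x)) = A b' p • ζ x := ct_tn _ _ _
    rw [h6, hω]
    rw [h7] at h5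
    rw [smul_add, smul_neg]
    have h8 : ct Θ A u (g • tn Θ b x) = ct Θ A u (tn Θ b' (ζ x)) + A a u • A b' p • ζ x -
        A a u • ct Θ A p (g • tn Θ b x) := by
      rw [← h5]; abel
    rw [h8]
    abel
  obtain ⟨ω', hω'⟩ := exists_adj h.symB ω
  -- the conjugate of `t_b`
  obtain ⟨t, ht, htv⟩ := h.exists_tU b 1
  have hct : ∀ v, ct Θ A b (g⁻¹ • v) = ζ' (ct Θ A b' v) + ω' (ct Θ A a v) := by
    intro v
    apply h.extW
    intro x
    rw [← h.form_ct, ← form_smul g, smul_inv_smul, hgb, sympForm_add_right, h.form_ct, h.form_ct,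
      map_add, LinearMap.add_apply, hadj, hω']
  have hconj : ∀ v, (g * t * g⁻¹) • v = v + tn Θ b' (ζ (ζ' (ct Θ A b' v) + ω' (ct Θ A a v))) +
      tn Θ a (ω (ζ' (ct Θ A b' v) + ω' (ct Θ A a v))) := by
    intro v
    rw [mul_smul, mul_smul, htv, smul_add', smul_inv_smul, one_smul, hct, hgb]
    abel
  have hab' : A a b' = 0 := by rw [h.swap, hb'a, neg_zero]
  have hb'c : ∀ k : F, b' ≠ k • a := by
    intro k hk
    -- then `g (b ⊗ x) = a ⊗ _ = g (a ⊗ _)`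
    have h3 : g • tn Θ b x₀ = g • tn Θ a (c⁻¹ • ζ' (k • ζ x₀ + ω x₀)) := by
      rw [hgb, hk, tn_smul_left, ← tn_smul_right, ← tn_add_right, hgζ, map_smul, hc1, smul_smul,
        inv_mul_cancel₀ hc0, one_smul]
    have h4 := smul_left_cancel g h3
    obtain ⟨z, hza, hzb⟩ : ∃ z, A z a = 0 ∧ A z b ≠ 0 := by
      by_contra hc
      push Not at hc
      obtain ⟨c, hc'⟩ := h.mem_line ha hc
      exact hb c hc'
    have h5 := congrArg (ct Θ A z) h4
    rw [ct_tn, ct_tn, h.swap a z, hza, neg_zero, zero_smul] at h5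
    have h6 := (smul_eq_zero.1 h5).resolve_left (by rw [h.swap]; exact neg_ne_zero.2 hzb)
    rw [h6, map_zero] at hx₀
    exact hx₀ rfl
  obtain ⟨t', ht', htv'⟩ := h.exists_tU b' (-c)
  have hR : InR Θ A M a b' (ω ∘ₗ ζ') (ζ ∘ₗ ω') (ω ∘ₗ ω') := by
    refine ⟨g * t * g⁻¹ * t', M.mul_mem (M.mul_mem (M.mul_mem hg (hH t ht)) (M.inv_mem hg))
      (hH t' ht'), fun v => ?_⟩
    rw [mul_smul, hconj, htv']
    simp only [map_add, map_smul, ct_tn, h.alt, hb'a, zero_smul, smul_zero, add_zero, tn_add_right,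
      hc1, LinearMap.comp_apply, tn_smul_right]
    module
  obtain ⟨l, hl⟩ := scalar_of_InR h2 h hdim hs0 hs hH hscal ha hab' hb'c
    (δ := ω ∘ₗ ζ') (δ' := ζ ∘ₗ ω') (fun x y => by
      rw [LinearMap.comp_apply, LinearMap.comp_apply, h.symB.symm, ← hadj, h.symB.symm, hω']) hR
  have hω2 : ∀ x, ω x = (c⁻¹ * l) • ζ x := by
    intro x
    have h3 := congrArg (fun L : W →ₗ[F] W => L (ζ x)) hl
    simp only [LinearMap.comp_apply, LinearMap.smul_apply, LinearMap.id_apply, hc2, map_smul] at h3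
    rw [mul_smul, ← h3, smul_smul, inv_mul_cancel₀ hc0, one_smul]
  refine ⟨b' + (c⁻¹ * l) • a, fun x => ?_⟩
  rw [hgb, hω2, tn_add_left, tn_smul_left, tn_smul_right]

/-- **The stabiliser of `a ⊗ W` in `M` respects the tensor structure.** -/
theorem stab_inH (h2 : (2 : F) ≠ 0) (h : TS A B Θ) [FiniteDimensional F W] [Nontrivial W]
    [FiniteDimensional F U] (hU : 3 ≤ Module.finrank F U)
    (hdim : 3 ≤ Module.finrank F W) {s₀ : W} (hs0 : s₀ ≠ 0) (hs : B s₀ s₀ = 0)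
    (hH : ∀ g, InH Θ g → g ∈ M)
    (hscal : ∀ (x : U) (S : W →ₗ[F] W), x ≠ 0 → InAt Θ A M x S → ∃ c : F, S = c • LinearMap.id)
    {a : U} (ha : a ≠ 0) {g : G} (hg : g ∈ M) {ζ : W →ₗ[F] W}
    (hgζ : ∀ w, g • tn Θ a w = tn Θ a (ζ w)) :
    ∃ α : U →ₗ[F] U, ∀ u w, g • tn Θ u w = tn Θ (α u) (ζ w) := by
  obtain ⟨c, ζ', hc0, hadj, hc1, hc2, hginv, hctg⟩ := exists_simil h hH hscal ha hg hgζ
  have hinj : ∀ w, ζ w = 0 → w = 0 := by
    intro w hw
    have h3 := hc2 w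
    rw [hw, map_zero] at h3
    exact (smul_eq_zero.1 h3.symm).resolve_left hc0
  have key : ∀ u, ∃ u' : U, ∀ x, g • tn Θ u x = tn Θ u' (ζ x) := by
    intro u
    by_cases hau : A a u = 0
    · exact image_perp h2 h hdim hs0 hs hH hscal ha hg hgζ hau
    -- a vector orthogonal to `a` and `u`
    obtain ⟨b, hb0, hab, hub⟩ : ∃ b : U, b ≠ 0 ∧ A a b = 0 ∧ A u b = 0 := by
      let L : U →ₗ[F] F × F := (A a).prod (A u)
      have h3 : 0 < Module.finrank F (LinearMap.ker L) := by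
        have h4 := L.finrank_range_add_finrank_ker
        have h5 : Module.finrank F (LinearMap.range L) ≤ 2 := by
          refine (Submodule.finrank_le _).trans ?_
          rw [Module.finrank_prod, Module.finrank_self]
        omega
      obtain ⟨⟨b, hb⟩, hb0⟩ := (Module.finrank_pos_iff_exists_ne_zero).1 h3
      have hb' : (A a b, A u b) = (0, 0) := hb
      refine ⟨b, fun h0 => hb0 (Subtype.ext h0), (Prod.ext_iff.1 hb').1, (Prod.ext_iff.1 hb').2⟩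
    obtain ⟨b', hb'⟩ := image_perp h2 h hdim hs0 hs hH hscal ha hg hgζ hab
    have hb'0 : b' ≠ 0 := by
      rintro rfl
      obtain ⟨w, hw⟩ := exists_ne (0 : W)
      have h3 := hb' w
      rw [tn_zero_left, smul_eq_iff_eq_inv_smul, smul_zero] at h3
      exact hw (tn_injective h hb0 (h3.trans (tn_zero_right b).symm))
    obtain ⟨σ, hσ, hσb⟩ := h.exists_isom hb'0 hb0
    obtain ⟨k, hk, hku⟩ := h.exists_U hσ
    have hσs : Function.Surjective σ := by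
      apply LinearMap.surjective_of_injective
      rw [injective_iff_map_eq_zero]
      intro x hx
      apply h.ndA
      intro y
      rw [← hσ, hx, map_zero, LinearMap.zero_apply]
    have hkg : ∀ w, (k * g) • tn Θ b w = tn Θ b (ζ w) := fun w => by
      rw [mul_smul, hb', hku, hσb]
    have hbu : A b u = 0 := by rw [h.swap, hub, neg_zero]
    obtain ⟨u', hu'⟩ := image_perp h2 h hdim hs0 hs hH hscal hb0 (M.mul_mem (hH k hk) hg) hkg hbu
    obtain ⟨u'', rfl⟩ := hσs u'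
    refine ⟨u'', fun x => ?_⟩
    have h3 := hu' x
    rw [mul_smul, ← hku] at h3
    exact smul_left_cancel k h3
  obtain ⟨x₀, hx₀⟩ := exists_ne (0 : W)
  have hx₀' : ζ x₀ ≠ 0 := fun h0 => hx₀ (hinj x₀ h0)
  obtain ⟨w₀, hw₀⟩ := exists_partner h.symB hx₀'
  refine ⟨rt Θ B w₀ ∘ₗ gL g ∘ₗ Θ.toLinearMap ∘ₗ (TensorProduct.mk F U W).flip x₀, fun u w => ?_⟩
  obtain ⟨u', hu'⟩ := key u
  have h3 : (rt Θ B w₀ ∘ₗ gL g ∘ₗ Θ.toLinearMap ∘ₗ (TensorProduct.mk F U W).flip x₀) u =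
      rt Θ B w₀ (g • tn Θ u x₀) := rfl
  rw [h3, hu', hu', rt_tn, h.symB.symm, hw₀, one_smul]

end Cfsg.Agent.H879.TenS
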