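import Cfsg.Agent.H879.TenStab

/-!
# Overgroups of `Sp(U) ⊗ O(W)`: the elements `t_a ⊗ 1` are TI (helper879)
-/

set_option autoImplicit false
set_option linter.unusedSimpArgs false
open Cfsg
open scoped Matrix TensorProduct
open Cfsg.Agent.ClassicalGeometry.SympBasic Cfsg.Agent.ClassicalGeometry.SympSiegel

namespace Cfsg.Agent.H879.TenS

open Cfsg.Agent.H875 Cfsg.Agent.H875.Ten

variable {F : Type*} [Field F] {m : ℕ}

local notation "V" => (Fin m ⊕ Fin m → F)
local notation "G" => Matrix.symplecticGroup (Fin m) F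
local notation "f" => sympForm m F

variable {U W : Type*} [AddCommGroup U] [Module F U] [AddCommGroup W] [Module F W]
variable {A : LinearMap.BilinForm F U} {B : LinearMap.BilinForm F W}
  {Θ : U ⊗[F] W ≃ₗ[F] (Fin m ⊕ Fin m → F)} {M : Subgroup (Matrix.symplecticGroup (Fin m) F)}

theorem tn_eq_zero (h : TS A B Θ) {u : U} {w : W} (hw : tn Θ u w = 0) : u = 0 ∨ w = 0 := by
  by_cases hu : u = 0
  · exact Or.inl hu
  · right
    exact tn_injective h hu (hw.trans (tn_zero_right u).symm)

theorem InH_inv (h : TS A B Θ) [FiniteDimensional F U] [FiniteDimensional F W] [Nontrivial U]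
    [Nontrivial W] {g : G} (hg : InH Θ g) : InH Θ g⁻¹ := by
  obtain ⟨α, β, hαβ⟩ := hg
  have hα : Function.Injective α := by
    rw [injective_iff_map_eq_zero]
    intro u hu
    obtain ⟨w, hw⟩ := exists_ne (0 : W)
    have h3 := hαβ u w
    rw [hu, tn_zero_left, smul_eq_iff_eq_inv_smul, smul_zero] at h3
    exact (tn_eq_zero h h3).resolve_right hw
  have hβ : Function.Injective β := by
    rw [injective_iff_map_eq_zero]
    intro w hw
    obtain ⟨u, hu⟩ := exists_ne (0 : U)
    have h3 := hαβ u w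
    rw [hw, tn_zero_right, smul_eq_iff_eq_inv_smul, smul_zero] at h3
    exact (tn_eq_zero h h3).resolve_left hu
  let α' := LinearEquiv.ofInjectiveEndo α hα
  let β' := LinearEquiv.ofInjectiveEndo β hβ
  have e1 : ∀ u, α (α'.symm u) = u := fun u => α'.apply_symm_apply u
  have e2 : ∀ w, β (β'.symm w) = w := fun w => β'.apply_symm_apply w
  refine ⟨α'.symm.toLinearMap, β'.symm.toLinearMap, fun u w => ?_⟩
  rw [inv_smul_eq_iff, hαβ]
  rw [LinearEquiv.coe_coe, LinearEquiv.coe_coe, e1, e2]

/-- One of the two components of a quadratic element `α ⊗ β` is scalar. -/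
theorem scalar_or (h2 : (2 : F) ≠ 0) (h : TS A B Θ) [FiniteDimensional F W] {x : G}
    {α : U →ₗ[F] U} {β : W →ₗ[F] W} (hβ : Function.Injective β)
    (hx : ∀ u w, x • tn Θ u w = tn Θ (α u) (β w))
    (hq : ∀ v : V, x • x • v - (2 : F) • x • v + v = 0) :
    (∃ c : F, ∀ u, α u = c • u) ∨ ∃ c : F, ∀ w, β w = c • w := by
  by_cases hα : ∀ u, ∃ c : F, α u = c • u
  · left
    by_cases hU : ∃ u₀ : U, u₀ ≠ 0
    · obtain ⟨u₀, hu₀⟩ := hU
      obtain ⟨c, hc⟩ := hα u₀
      refine ⟨c, fun u => ?_⟩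
      obtain ⟨d, hd⟩ := hα u
      obtain ⟨e, he⟩ := hα (u₀ + u)
      by_cases hlin : ∃ k : F, u = k • u₀
      · obtain ⟨k, rfl⟩ := hlin
        rw [map_smul, hc, smul_comm]
      · push Not at hlin
        rw [map_add, hc, hd] at he
        have h3 : (c - e) • u₀ + (d - e) • u = 0 := by
          rw [sub_smul, sub_smul]
          have : c • u₀ + d • u = e • u₀ + e • u := by rw [he, smul_add]
          rw [← sub_eq_zero] at this
          rw [← this]
          abel
        by_cases hde : d = e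
        · subst hde
          rw [sub_self, zero_smul, add_zero] at h3
          have h4 := (smul_eq_zero.1 h3).resolve_right hu₀
          rw [hd, sub_eq_zero.1 h4]
        · exfalso
          apply hlin (-((d - e)⁻¹ * (c - e)))
          have h5 : (d - e)⁻¹ • ((c - e) • u₀ + (d - e) • u) = 0 := by rw [h3, smul_zero]
          rw [smul_add, smul_smul, smul_smul, inv_mul_cancel₀ (sub_ne_zero.2 hde), one_smul] at h5
          rw [neg_smul]
          exact eq_neg_of_add_eq_zero_right h5
    · push Not at hU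
      exact ⟨0, fun u => by rw [hU u, map_zero, smul_zero]⟩
  · right
    push Not at hα
    obtain ⟨u, hu⟩ := hα
    have hu0 : u ≠ 0 := by
      rintro rfl
      exact hu 0 (by rw [map_zero, smul_zero])
    obtain ⟨z, hzu, hzα⟩ : ∃ z, A z u = 0 ∧ A z (α u) ≠ 0 := by
      by_contra hc
      push Not at hc
      obtain ⟨c, hc'⟩ := h.mem_line hu0 hc
      exact hu c hc'
    have huz : A u z = 0 := by rw [h.swap, hzu, neg_zero]
    have hαz : A (α u) z ≠ 0 := by rw [h.swap]; exact neg_ne_zero.2 hzα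
    have key : ∀ w, A (α (α u)) z • β (β w) = (2 * A (α u) z) • β w := by
      intro w
      have h3 := congrArg (ct Θ A z) (hq (tn Θ u w))
      rw [hx, hx, map_add, map_sub, map_smul, ct_tn, ct_tn, ct_tn, huz, zero_smul, add_zero, map_zero,
        sub_eq_zero, smul_smul] at h3
      exact h3
    have hsurj : Function.Surjective β := LinearMap.surjective_of_injective hβ
    have h2α : 2 * A (α u) z ≠ 0 := mul_ne_zero h2 hαz
    by_cases hk : A (α (α u)) z = 0
    · refine ⟨0, fun w => ?_⟩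
      have h3 := key w
      rw [hk, zero_smul] at h3
      rw [zero_smul]
      exact (smul_eq_zero.1 h3.symm).resolve_left h2α
    · refine ⟨(A (α (α u)) z)⁻¹ * (2 * A (α u) z), fun w => ?_⟩
      obtain ⟨w', rfl⟩ := hsurj w
      rw [mul_smul, ← key, smul_smul, inv_mul_cancel₀ hk, one_smul]

/-- Reflections of `W`. -/
theorem exists_refl (h : TS A B Θ) {w₁ : W} (hw₁ : B w₁ w₁ ≠ 0) :
    ∃ s : G, InH Θ s ∧ ∀ v, s • v = v - (2 / B w₁ w₁) • tn Θ (rt Θ B w₁ v) w₁ := by
  obtain ⟨s, hs, hsu⟩ := h.exists_W (y := LinearMap.id - (2 / B w₁ w₁) • rk B w₁ w₁) (by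
    intro w w'
    simp only [LinearMap.sub_apply, LinearMap.id_apply, LinearMap.smul_apply, rk_apply, map_sub,
      map_smul, smul_eq_mul, h.symB.symm w₁ w']
    field_simp
    ring)
  refine ⟨s, hs, fun v => ?_⟩
  refine tn_induction (Θ := Θ)
    (P := fun v => s • v = v - (2 / B w₁ w₁) • tn Θ (rt Θ B w₁ v) w₁) ?_ ?_ ?_ v
  · rw [smul_zero, map_zero, tn_zero_left, smul_zero, sub_zero]
  · intro u w
    rw [hsu, rt_tn]
    simp only [LinearMap.sub_apply, LinearMap.id_apply, LinearMap.smul_apply, rk_apply,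
      tn_sub_right, tn_smul_right, tn_smul_left]
  · intro x y hx hy
    rw [smul_add', hx, hy, map_add, tn_add_left, smul_add]
    abel

/-- Polarisation. -/
theorem eq_zero_of_sing (h2 : (2 : F) ≠ 0) (hB : SymB B) {P : Submodule F W}
    (hP : ∀ w ∈ P, B w w = 0) {w w' : W} (hw : w ∈ P) (hw' : w' ∈ P) : B w w' = 0 := by
  have h3 := hP _ (P.add_mem hw hw')
  rw [map_add, map_add, LinearMap.add_apply, LinearMap.add_apply, hP w hw, hP w' hw',
    hB.symm w' w] at h3
  have h4 : 2 * B w w' = 0 := by linear_combination h3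
  exact (mul_eq_zero.1 h4).resolve_left h2

/-- **TI property of `t_a ⊗ 1`.** -/
theorem ti_tU (h2 : (2 : F) ≠ 0) (h : TS A B Θ) [FiniteDimensional F W] [Nontrivial W]
    [FiniteDimensional F U] (hU : 3 ≤ Module.finrank F U)
    (hdim : 3 ≤ Module.finrank F W) {s₀ : W} (hs0 : s₀ ≠ 0) (hs : B s₀ s₀ = 0)
    (hH : ∀ g, InH Θ g → g ∈ M)
    (hscal : ∀ (x : U) (S : W →ₗ[F] W), x ≠ 0 → InAt Θ A M x S → ∃ c : F, S = c • LinearMap.id)
    {a : U} (ha : a ≠ 0) {t : G} (ht : ∀ v, t • v = v + tn Θ a (ct Θ A a v)) {g : G} (hg : g ∈ M)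
    (hgt : InH Θ (g * t * g⁻¹)) : InH Θ g := by
  have : Nontrivial U := ⟨a, 0, ha⟩
  obtain ⟨p, hp⟩ : ∃ p, A p a = 1 := by
    obtain ⟨y, hy⟩ : ∃ y, A a y ≠ 0 := by
      by_contra hc
      push Not at hc
      exact ha (h.ndA a hc)
    refine ⟨(-(A a y)⁻¹) • y, ?_⟩
    rw [map_smul, LinearMap.smul_apply, smul_eq_mul, h.swap y a]
    field_simp
  set x := g * t * g⁻¹ with hxdef
  have hxv : ∀ v, x • v = v + g • tn Θ a (ct Θ A a (g⁻¹ • v)) := by
    intro v
    rw [hxdef, mul_smul, mul_smul, ht, smul_add', smul_inv_smul]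
  obtain ⟨α, β, hαβ⟩ := id hgt
  have hα : Function.Injective α := by
    rw [injective_iff_map_eq_zero]
    intro u hu
    obtain ⟨w, hw⟩ := exists_ne (0 : W)
    have h3 := hαβ u w
    rw [hu, tn_zero_left, smul_eq_iff_eq_inv_smul, smul_zero] at h3
    exact (tn_eq_zero h h3).resolve_right hw
  have hβ : Function.Injective β := by
    rw [injective_iff_map_eq_zero]
    intro w hw
    obtain ⟨u, hu⟩ := exists_ne (0 : U)
    have h3 := hαβ u w
    rw [hw, tn_zero_right, smul_eq_iff_eq_inv_smul, smul_zero] at h3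
    exact (tn_eq_zero h h3).resolve_left hu
  have hq : ∀ v : V, x • x • v - (2 : F) • x • v + v = 0 := by
    intro v
    have h3 : ct Θ A a (g⁻¹ • x • v) = ct Θ A a (g⁻¹ • v) := by
      rw [hxv, smul_add', inv_smul_smul, map_add, ct_tn, h.alt, zero_smul, add_zero]
    rw [hxv (x • v), h3, hxv]
    generalize g • tn Θ a (ct Θ A a (g⁻¹ • v)) = z
    module
  -- `x ≠ 1`
  have hx1 : ∃ (u : U) (w : W), x • tn Θ u w ≠ tn Θ u w := by
    by_contra hcon
    push Not at hcon
    have h3 : ∀ v : V, x • v = v := fun v => by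
      refine tn_induction (Θ := Θ) (P := fun v => x • v = v) (smul_zero _) hcon ?_ v
      intro y z hy hz
      rw [smul_add', hy, hz]
    obtain ⟨w, hw⟩ := exists_ne (0 : W)
    have h4 := h3 (g • tn Θ p w)
    rw [hxv, inv_smul_smul, ct_tn, hp, one_smul] at h4
    have h5 : g • tn Θ a w = 0 := by
      have := congrArg (fun z => z - g • tn Θ p w) h4
      simpa using this
    rw [smul_eq_iff_eq_inv_smul, smul_zero] at h5
    rcases tn_eq_zero h h5 with h6 | h6
    · exact ha h6
    · exact hw h6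
  rcases scalar_or h2 h hβ hαβ hq with ⟨c, hc⟩ | ⟨c, hc⟩
  · -- `x = 1 ⊗ c β`
    exfalso
    have hx2 : ∀ u w, x • tn Θ u w = tn Θ u (c • β w) := fun u w => by
      rw [hαβ, hc, tn_smul_left, tn_smul_right]
    let P : Submodule F W := LinearMap.range (c • β - LinearMap.id)
    have hP : ∀ y ∈ P, ∀ u, ∃ w, tn Θ u y = g • tn Θ a w := by
      rintro y ⟨w, rfl⟩ u
      refine ⟨ct Θ A a (g⁻¹ • tn Θ u w), ?_⟩
      have h3 := hxv (tn Θ u w)
      rw [hx2] at h3
      rw [LinearMap.sub_apply, LinearMap.smul_apply, LinearMap.id_apply, tn_sub_right, h3]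
      abel
    have hP2 : ∀ z : U ⊗[F] P, ∃ w, g⁻¹ • Θ (TensorProduct.map LinearMap.id P.subtype z) =
        tn Θ a w := by
      intro z
      induction z using TensorProduct.induction_on with
      | zero => exact ⟨0, by rw [map_zero, map_zero, smul_zero, tn_zero_right]⟩
      | tmul u y =>
        obtain ⟨w, hw⟩ := hP y y.2 u
        refine ⟨w, ?_⟩
        rw [TensorProduct.map_tmul, LinearMap.id_apply, inv_smul_eq_iff]
        exact hw
      | add z z' hz hz' =>
        obtain ⟨w, hw⟩ := hz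
        obtain ⟨w', hw'⟩ := hz'
        exact ⟨w + w', by rw [map_add, map_add, smul_add', hw, hw', tn_add_right]⟩
    -- `3 dim P ≤ dim W`
    have hdimP : Module.finrank F U * Module.finrank F P ≤ Module.finrank F W := by
      let Φ : U ⊗[F] P →ₗ[F] W := ct Θ A p ∘ₗ gL g⁻¹ ∘ₗ Θ.toLinearMap ∘ₗ
        TensorProduct.map LinearMap.id P.subtype
      have hΦ : Function.Injective Φ := by
        rw [injective_iff_map_eq_zero]
        intro z hz
        obtain ⟨w, hw⟩ := hP2 z
        have h3 : Φ z = ct Θ A p (g⁻¹ • Θ (TensorProduct.map LinearMap.id P.subtype z)) := rfl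
        rw [h3, hw, ct_tn] at hz
        have h4 : A a p ≠ 0 := by
          rw [h.swap, hp]; exact neg_ne_zero.2 one_ne_zero
        have h5 := (smul_eq_zero.1 hz).resolve_left h4
        rw [h5, tn_zero_right, inv_smul_eq_iff, smul_zero] at hw
        have h6 : Function.Injective (LinearMap.lTensor U P.subtype) :=
          Module.Flat.lTensor_preserves_injective_linearMap _ P.subtype_injective
        apply h6
        rw [map_zero]
        apply Θ.injective
        rw [map_zero]
        exact hw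
      have h7 := LinearMap.finrank_le_finrank_of_injective hΦ
      rwa [Module.finrank_tensorProduct] at h7
    -- `P ≠ 0`
    obtain ⟨y₀, hy₀P, hy₀⟩ : ∃ y ∈ P, y ≠ 0 := by
      obtain ⟨u, w, huw⟩ := hx1
      refine ⟨(c • β - LinearMap.id : W →ₗ[F] W) w, ⟨w, rfl⟩, fun h0 => huw ?_⟩
      rw [hx2]
      rw [LinearMap.sub_apply, LinearMap.smul_apply, LinearMap.id_apply, sub_eq_zero] at h0
      rw [h0]
    have hPpos : 0 < Module.finrank F P := by
      rw [Module.finrank_pos_iff_exists_ne_zero]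
      exact ⟨⟨y₀, hy₀P⟩, fun h0 => hy₀ (congrArg Subtype.val h0)⟩
    have hnd : B.Nondegenerate := by
      refine ⟨fun x hx => h.symB.nd x hx, fun x hx => h.symB.nd x fun y => by
        rw [h.symB.symm]; exact hx y⟩
    -- a nonsingular vector of `P^⊥`
    obtain ⟨w₁, hw₁P, hw₁⟩ : ∃ w₁, (∀ y ∈ P, B w₁ y = 0) ∧ B w₁ w₁ ≠ 0 := by
      by_contra hcon
      push Not at hcon
      have h3 : ∀ w ∈ B.orthogonal P, B w w = 0 := fun w hw => hcon w fun y hy => by
        rw [h.symB.symm]; exact hw y hy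
      have h4 : B.orthogonal P ≤ B.orthogonal (B.orthogonal P) := by
        intro w hw w' hw'
        exact eq_zero_of_sing h2 h.symB h3 hw' hw
      have h5 := Submodule.finrank_mono h4
      have e1 := LinearMap.BilinForm.finrank_orthogonal hnd P
      have e2 := LinearMap.BilinForm.finrank_orthogonal hnd (B.orthogonal P)
      have h6 := Submodule.finrank_le P
      have h7 : 3 * Module.finrank F P ≤ Module.finrank F W :=
        (Nat.mul_le_mul_right _ hU).trans hdimP
      omega
    -- the reflection fixes `g (a ⊗ W)` pointwise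
    obtain ⟨s, hsH, hsv⟩ := exists_refl h hw₁
    have hsfix : ∀ w, s • g • tn Θ a w = g • tn Θ a w := by
      intro w
      -- `g (a ⊗ w) = x v - v` with `v = g (p ⊗ w)`
      have h3 : g • tn Θ a w = x • g • tn Θ p w - g • tn Θ p w := by
        rw [hxv, inv_smul_smul, ct_tn, hp, one_smul]
        abel
      have h4 : ∀ v : V, rt Θ B w₁ (x • v - v) = 0 := by
        intro v
        refine tn_induction (Θ := Θ) (P := fun v => rt Θ B w₁ (x • v - v) = 0) ?_ ?_ ?_ v
        · rw [smul_zero, sub_zero, map_zero]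
        · intro u w
          have h5 : B w₁ (c • β w - w) = 0 := hw₁P _ ⟨w, rfl⟩
          rw [hx2, ← tn_sub_right, rt_tn, h.symB.symm, h5, zero_smul]
        · intro y z hy hz
          have : x • (y + z) - (y + z) = (x • y - y) + (x • z - z) := by rw [smul_add']; abel
          rw [this, map_add, hy, hz, add_zero]
      rw [hsv, h3, h4, tn_zero_left, smul_zero, sub_zero]
    have hM' : g⁻¹ * s * g ∈ M := M.mul_mem (M.mul_mem (M.inv_mem hg) (hH s hsH)) hg
    obtain ⟨α', hα'⟩ := stab_inH h2 h hU hdim hs0 hs hH hscal ha hM' (ζ := LinearMap.id)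
      (fun w => by rw [mul_smul, mul_smul, hsfix, inv_smul_smul, LinearMap.id_apply])
    -- `α' ≠ 1`
    obtain ⟨u, hu⟩ : ∃ u, α' u - u ≠ 0 := by
      by_contra hcon
      push Not at hcon
      have h3 : ∀ v : V, s • v = v := by
        intro v
        have h4 : ∀ v : V, (g⁻¹ * s * g) • v = v := fun v => by
          refine tn_induction (Θ := Θ) (P := fun v => (g⁻¹ * s * g) • v = v) (smul_zero _)
            (fun u w => by rw [hα', LinearMap.id_apply, sub_eq_zero.1 (hcon u)]) ?_ v
          intro y z hy hz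
          rw [smul_add', hy, hz]
        have h5 := h4 (g⁻¹ • v)
        rw [mul_smul, mul_smul, smul_inv_smul] at h5
        exact smul_left_cancel _ h5
      have h4 := h3 (tn Θ a w₁)
      rw [hsv, rt_tn, tn_smul_left, smul_smul, div_mul_cancel₀ _ hw₁] at h4
      have h5 : (2 : F) • tn Θ a w₁ = 0 := by
        rw [sub_eq_self] at h4
        exact h4
      rcases tn_eq_zero h ((smul_eq_zero.1 h5).resolve_left h2) with h6 | h6
      · exact ha h6
      · rw [h6, map_zero] at hw₁
        exact hw₁ rfl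
    set u₁ := α' u - u with hu₁
    obtain ⟨μ, hμ⟩ : ∃ μ : W →ₗ[F] U, ∀ w, g • tn Θ u₁ w = tn Θ (μ w) w₁ := by
      refine ⟨-((2 / B w₁ w₁) • (rt Θ B w₁ ∘ₗ gL g ∘ₗ tnL Θ u)), fun w => ?_⟩
      have h3 : s • g • tn Θ u w = g • tn Θ (α' u) w := by
        have h4 := hα' u w
        rw [mul_smul, mul_smul, inv_smul_eq_iff] at h4
        exact h4
      have h5 : g • tn Θ u₁ w = s • g • tn Θ u w - g • tn Θ u w := by
        rw [h3, hu₁, tn_sub_left, smul_sub]
      rw [h5, hsv]
      have h6 : (-((2 / B w₁ w₁) • (rt Θ B w₁ ∘ₗ gL g ∘ₗ tnL Θ u))) w =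
        -((2 / B w₁ w₁) • rt Θ B w₁ (g • tn Θ u w)) := rfl
      rw [h6, tn_neg_left, tn_smul_left]
      abel
    have hμinj : Function.Injective μ := by
      rw [injective_iff_map_eq_zero]
      intro w hw
      have h3 := hμ w
      rw [hw, tn_zero_left, smul_eq_iff_eq_inv_smul, smul_zero] at h3
      exact (tn_eq_zero h h3).resolve_left hu
    have hle1 : Module.finrank F U ≤ Module.finrank F W := by
      refine le_trans ?_ hdimP
      exact Nat.le_mul_of_pos_right _ hPpos
    have hμsurj : Function.Surjective μ := by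
      rw [← LinearMap.injective_iff_surjective_of_finrank_eq_finrank
        (le_antisymm (LinearMap.finrank_le_finrank_of_injective hμinj) hle1)]
      exact hμinj
    apply ha
    apply h.ndA
    intro y
    obtain ⟨w, rfl⟩ := hμsurj y
    obtain ⟨w', hw'⟩ := hμsurj a
    rw [← hw']
    have h3 : f (tn Θ (μ w') w₁) (tn Θ (μ w) w₁) = 0 := by
      rw [← hμ, ← hμ, form_smul, h.form', h.alt, zero_mul]
    rw [h.form'] at h3
    exact (mul_eq_zero.1 h3).resolve_right hw₁
  · -- `x = c α ⊗ 1`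
    have hx2 : ∀ u w, x • tn Θ u w = tn Θ (c • α u) w := fun u w => by
      rw [hαβ, hc, tn_smul_left, tn_smul_right]
    obtain ⟨u, w₀, hu⟩ := hx1
    set u₁ := c • α u - u with hu₁
    have hu₁0 : u₁ ≠ 0 := by
      intro h0
      apply hu
      rw [hx2]
      rw [hu₁, sub_eq_zero] at h0
      rw [h0]
    let ξ : W →ₗ[F] W := ct Θ A a ∘ₗ gL g⁻¹ ∘ₗ tnL Θ u
    have hξ : ∀ w, g⁻¹ • tn Θ u₁ w = tn Θ a (ξ w) := by
      intro w
      rw [inv_smul_eq_iff]
      have h3 := hxv (tn Θ u w)
      rw [hx2] at h3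
      rw [hu₁, tn_sub_left, h3]
      have h4 : ξ w = ct Θ A a (g⁻¹ • tn Θ u w) := rfl
      rw [h4]
      abel
    obtain ⟨σ, hσ, hσa⟩ := h.exists_isom ha hu₁0
    obtain ⟨k, hk, hku⟩ := h.exists_U hσ
    obtain ⟨α', hα'⟩ := stab_inH h2 h hU hdim hs0 hs hH hscal hu₁0
      (M.mul_mem (hH k hk) (M.inv_mem hg)) (ζ := ξ) (fun w => by rw [mul_smul, hξ, hku, hσa])
    have h3 : InH Θ (k⁻¹ * (k * g⁻¹)) := (InH_inv h hk).mul ⟨α', ξ, hα'⟩
    rw [inv_mul_cancel_left] at h3
    have h4 := InH_inv h h3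
    rwa [inv_inv] at h4

end Cfsg.Agent.H879.TenS
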