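import Cfsg.Agent.H879.TenMain
import Cfsg.Agent.H924.TenWrap

/-!
# `Sp_{n₁}(q) ⊗ O_{n₂}(q)` is maximal in `Sp_{2m}(q)` for `q` odd, `n₁ ≥ 3`, `n₂ ≥ 3` (helper879)

Every `m`; the only exclusion is `q = 3 = n₂`.
-/

set_option autoImplicit false
set_option linter.unusedSectionVars false

open Cfsg Cfsg.Geo Matrix
open scoped TensorProduct
open Cfsg.Agent.ClassicalGeometry.SympBasic Cfsg.Agent.ClassicalGeometry.SympSiegel
open Cfsg.Agent.H875 Cfsg.Agent.H875.Ten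

namespace Cfsg.Agent.H879.TenS

variable {F : Type*} [Field F]

/-- `F^n₁ ⊗ F^n₂ ≃ F^(n₁ × n₂)` -/
noncomputable def tpe (F : Type*) [Field F] (n₁ n₂ : ℕ) :
    (Fin n₁ → F) ⊗[F] (Fin n₂ → F) ≃ₗ[F] (Fin n₁ × Fin n₂ → F) :=
  (TensorProduct.piScalarRight F F (Fin n₁ → F) (Fin n₂)).trans
    { toFun := fun v p => v p.2 p.1
      map_add' := fun _ _ => rfl
      map_smul' := fun _ _ => rfl
      invFun := fun v j i => v (i, j)
      left_inv := fun _ => rfl
      right_inv := fun _ => rfl }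

theorem tpe_tmul {n₁ n₂ : ℕ} (u : Fin n₁ → F) (w : Fin n₂ → F) :
    tpe F n₁ n₂ (u ⊗ₜ w) = Cfsg.Agent.H883.Tensor.tmul u w := by
  funext p
  simp [tpe, Cfsg.Agent.H883.Tensor.tmul, mul_comm]

/-- The identification of `F^n₁ ⊗ F^n₂` with `F^{2m}` given by `e` and `P`. -/
noncomputable def thE {m n₁ n₂ : ℕ} (e : (Fin m ⊕ Fin m) ≃ Fin n₁ × Fin n₂)
    (P : Matrix.GeneralLinearGroup (Fin m ⊕ Fin m) F) :
    (Fin n₁ → F) ⊗[F] (Fin n₂ → F) ≃ₗ[F] (Fin m ⊕ Fin m → F) :=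
  (tpe F n₁ n₂).trans (Cfsg.Agent.H883.Tensor.vec e P)

theorem tn_thE {m n₁ n₂ : ℕ} (e : (Fin m ⊕ Fin m) ≃ Fin n₁ × Fin n₂)
    (P : Matrix.GeneralLinearGroup (Fin m ⊕ Fin m) F) (u : Fin n₁ → F) (w : Fin n₂ → F) :
    tn (thE e P) u w = Cfsg.Agent.H883.Tensor.pure e P u w := by
  rw [tn, thE, LinearEquiv.trans_apply, tpe_tmul]
  rfl

/-- an injective endomorphism of `F^n` as an element of `GL_n` -/
theorem exists_gl {n : ℕ} (a : (Fin n → F) →ₗ[F] (Fin n → F)) (ha : ∀ x, a x = 0 → x = 0) :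
    ∃ g : Matrix.GeneralLinearGroup (Fin n) F, ∀ x, (g : Matrix (Fin n) (Fin n) F) *ᵥ x = a x := by
  have hinj : Function.Injective a := (injective_iff_map_eq_zero a).2 ha
  have hu : IsUnit (LinearMap.toMatrix' a) := by
    rw [Matrix.isUnit_iff_isUnit_det]
    have h1 : LinearMap.det a ≠ 0 := by
      intro h0
      have := LinearMap.bot_lt_ker_of_det_eq_zero h0
      rw [LinearMap.ker_eq_bot.2 hinj] at this
      exact lt_irrefl _ this
    rw [LinearMap.det_toMatrix']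
    exact h1.isUnit
  obtain ⟨g, hg⟩ := hu
  refine ⟨g, fun x => ?_⟩
  rw [hg, ← Matrix.toLin'_apply, Matrix.toLin'_toMatrix']

theorem inH_iff {m n₁ n₂ : ℕ} (hn₁ : 1 ≤ n₁) (hn₂ : 1 ≤ n₂)
    {e : (Fin m ⊕ Fin m) ≃ Fin n₁ × Fin n₂}
    {P : Matrix.GeneralLinearGroup (Fin m ⊕ Fin m) F} {A : LinearMap.BilinForm F (Fin n₁ → F)}
    {B : LinearMap.BilinForm F (Fin n₂ → F)} (h : TS A B (thE e P))
    (g : Matrix.symplecticGroup (Fin m) F) :
    InH (thE e P) g ↔ toGL m F g ∈ tensorProductSubgroup n₁ n₂ e P := by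
  have : Nonempty (Fin n₁) := ⟨⟨0, hn₁⟩⟩
  have : Nonempty (Fin n₂) := ⟨⟨0, hn₂⟩⟩
  rw [Cfsg.Agent.H883.Tensor.mem_tensorProductSubgroup_iff]
  constructor
  · rintro ⟨a, b, hab⟩
    obtain ⟨u₀, hu₀⟩ := exists_ne (0 : Fin n₁ → F)
    obtain ⟨w₀, hw₀⟩ := exists_ne (0 : Fin n₂ → F)
    obtain ⟨a', ha'⟩ := exists_gl a fun x hx => by
      by_contra hx0
      have h1 := hab x w₀
      rw [hx, tn_zero_left, smul_eq_zero_iff'] at h1
      rcases tn_eq_zero h h1 with h2 | h2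
      · exact hx0 h2
      · exact hw₀ h2
    obtain ⟨b', hb'⟩ := exists_gl b fun x hx => by
      by_contra hx0
      have h1 := hab u₀ x
      rw [hx, tn_zero_right, smul_eq_zero_iff'] at h1
      rcases tn_eq_zero h h1 with h2 | h2
      · exact hu₀ h2
      · exact hx0 h2
    refine ⟨a', b', fun x y => ?_⟩
    rw [ha', hb', ← tn_thE, ← tn_thE, toGL_mulVec, hab]
  · rintro ⟨a, b, hab⟩
    refine ⟨Matrix.toLin' (a : Matrix (Fin n₁) (Fin n₁) F), Matrix.toLin' (b : Matrix (Fin n₂) (Fin n₂) F), fun u w => ?_⟩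
    rw [tn_thE, tn_thE, Matrix.toLin'_apply, Matrix.toLin'_apply, ← hab, toGL_mulVec]

/-- The tensor structure of a tensor form structure. -/
theorem exists_TS {m n₁ n₂ : ℕ} {e : (Fin m ⊕ Fin m) ≃ Fin n₁ × Fin n₂}
    {P : Matrix.GeneralLinearGroup (Fin m ⊕ Fin m) F}
    {f₁ : (Fin n₁ → F) → (Fin n₁ → F) → F} {f₂ : (Fin n₂ → F) → (Fin n₂ → F) → F}
    (hf₁ : Cfsg.Geo.IsSymplecticForm f₁) (hf₂ : Cfsg.Geo.IsSymmetricForm f₂)
    (hT : Cfsg.Geo.IsTensorFormStructure id (Cfsg.sympForm m F) f₁ f₂ e P) :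
    ∃ (A : LinearMap.BilinForm F (Fin n₁ → F)) (B : LinearMap.BilinForm F (Fin n₂ → F)) (c : F),
      c ≠ 0 ∧ (∀ x y, A x y = f₁ x y) ∧ (∀ x y, B x y = c * f₂ x y) ∧ TS A B (thE e P) := by
  obtain ⟨c, hc, hform⟩ := Cfsg.Agent.H883.Tensor.form_pure hf₁.bilinear hf₂.bilinear hT
  let A : LinearMap.BilinForm F (Fin n₁ → F) :=
    LinearMap.mk₂ F f₁ hf₁.bilinear.add_left
      (fun c x v => by rw [hf₁.bilinear.smul_left, smul_eq_mul]) hf₁.bilinear.add_right
      (fun c v x => by rw [hf₁.bilinear.smul_right, smul_eq_mul])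
  let B : LinearMap.BilinForm F (Fin n₂ → F) :=
    LinearMap.mk₂ F (fun x y => c * f₂ x y)
      (fun x y v => by rw [hf₂.bilinear.add_left, mul_add])
      (fun c x v => by rw [hf₂.bilinear.smul_left, smul_eq_mul]; ring)
      (fun x y v => by rw [hf₂.bilinear.add_right, mul_add])
      (fun c v x => by rw [hf₂.bilinear.smul_right, smul_eq_mul]; ring)
  have hA : ∀ x y, A x y = f₁ x y := fun _ _ => rfl
  have hB : ∀ x y, B x y = c * f₂ x y := fun _ _ => rfl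
  refine ⟨A, B, c, hc, hA, hB, ⟨fun u => ?_, fun u hu => ?_, ⟨fun x y => ?_, fun x hx => ?_⟩, fun u w u' w' => ?_⟩⟩
  · rw [hA, hf₁.alternating]
  · by_contra hu0
    obtain ⟨y, hy⟩ := (hf₁.nondegenerate u hu0).2
    exact hy (by rw [← hA, hu])
  · rw [hB, hB, hf₂.symm]
  · by_contra hx0
    obtain ⟨y, hy⟩ := (hf₂.nondegenerate x hx0).2
    have h1 := hx y
    rw [hB] at h1
    exact hy ((mul_eq_zero.1 h1).resolve_left hc)
  · change sympForm m F (tn (thE e P) u w) (tn (thE e P) u' w') = _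
    rw [tn_thE, tn_thE, hform, hA, hB]
    ring

theorem two_ne_zero_of_odd [Fintype F] (hodd : Odd (Fintype.card F)) : (2 : F) ≠ 0 := by
  intro h
  have h3 : ringChar F = 2 := by
    have h4 : ringChar F ∣ 2 := (ringChar.spec F 2).mp (by exact_mod_cast h)
    rcases (Nat.dvd_prime Nat.prime_two).mp h4 with h5 | h5
    · exact absurd h5 (CharP.ringChar_ne_one)
    · exact h5
  have := FiniteField.even_card_of_char_two h3
  rw [Nat.odd_iff] at hodd
  omega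

/-- A non-zero singular vector. -/
theorem exists_sing [Fintype F] (h2 : (2 : F) ≠ 0) {n : ℕ} (hn : 3 ≤ n)
    {B : LinearMap.BilinForm F (Fin n → F)} (hB : SymB B) : ∃ s : Fin n → F, s ≠ 0 ∧ B s s = 0 := by
  have hQ : Cfsg.Agent.H929.QF (fun x : Fin n → F => B x x / 2) (fun x y => B x y) :=
    { smul := fun c v => by simp only [map_smul, LinearMap.smul_apply, smul_eq_mul]; ring
      add := fun x y => by
        simp only [map_add, LinearMap.add_apply, hB.symm y x]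
        field_simp
        ring
      add_left := fun x y v => by simp only [map_add, LinearMap.add_apply]
      smul_left := fun c x v => by simp only [map_smul, LinearMap.smul_apply, smul_eq_mul] }
  have hnd : ∀ x ∈ (⊤ : Submodule F (Fin n → F)), x ≠ 0 →
      ∃ y ∈ (⊤ : Submodule F (Fin n → F)), B x y ≠ 0 := by
    intro x _ hx
    by_contra hc
    push Not at hc
    exact hx (hB.nd x fun y => hc y trivial)
  obtain ⟨s, -, hs0, hs⟩ := hQ.exists_singular h2 ⊤ hnd (by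
    rw [finrank_top, Module.finrank_fintype_fun_eq_card, Fintype.card_fin]; omega)
  refine ⟨s, hs0, ?_⟩
  have hs' : B s s / 2 = 0 := hs
  exact (div_eq_zero_iff.1 hs').resolve_right h2

theorem exists_sq_ne_one [Fintype F] (hodd : Odd (Fintype.card F)) (h3 : Fintype.card F ≠ 3) :
    ∃ t : F, t ≠ 0 ∧ t ^ 2 ≠ 1 := by
  classical
  by_contra hc
  push Not at hc
  have hsub : (Finset.univ : Finset F) ⊆ {0, 1, -1} := by
    intro t _
    by_cases ht : t = 0
    · simp [ht]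
    · have h1 := hc t ht
      rcases (sq_eq_one_iff.1 h1) with h4 | h4
      · simp [h4]
      · simp [h4]
  have hle := Finset.card_le_card hsub
  rw [Finset.card_univ] at hle
  have h4 : ({0, 1, -1} : Finset F).card ≤ 3 := Finset.card_le_three
  have h5 : 1 < Fintype.card F := Fintype.one_lt_card
  obtain ⟨k, hk⟩ := hodd
  omega

/-- **`Sp_{n₁}(q) ⊗ O_{n₂}(q)` is maximal in `Sp_{2m}(q)`**, `q` odd, `n₁ ≥ 3`, `n₂ ≥ 3`,
`(q, n₂) ≠ (3, 3)`, every `m`. -/
theorem tensor_maximal [Fintype F] {m n₁ n₂ : ℕ} (hn₁ : 3 ≤ n₁) (hn₂ : 3 ≤ n₂)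
    (hodd : Odd (Fintype.card F)) (hex : ¬ (Fintype.card F = 3 ∧ n₂ = 3))
    (e : (Fin m ⊕ Fin m) ≃ Fin n₁ × Fin n₂) (P : Matrix.GeneralLinearGroup (Fin m ⊕ Fin m) F)
    (f₁ : (Fin n₁ → F) → (Fin n₁ → F) → F) (f₂ : (Fin n₂ → F) → (Fin n₂ → F) → F)
    (hf₁ : Cfsg.Geo.IsSymplecticForm f₁) (hf₂ : Cfsg.Geo.IsSymmetricForm f₂)
    (hT : Cfsg.Geo.IsTensorFormStructure id (Cfsg.sympForm m F) f₁ f₂ e P) :
    Cfsg.Geo.IsMaximalIn (Cfsg.spGL m F)
      (Cfsg.Geo.tensorProductSubgroup n₁ n₂ e P ⊓ Cfsg.spGL m F) := by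
  have h2 := two_ne_zero_of_odd hodd
  obtain ⟨A, B, c, hc, hA, hB, h⟩ := exists_TS hf₁ hf₂ hT
  have hm : 1 ≤ m := by
    have h1 := Fintype.card_congr e
    simp only [Fintype.card_sum, Fintype.card_fin, Fintype.card_prod] at h1
    have : 0 < n₁ * n₂ := Nat.mul_pos (by omega) (by omega)
    omega
  obtain ⟨s₀, hs0, hs⟩ := exists_sing h2 hn₂ h.symB
  have hfU : Module.finrank F (Fin n₁ → F) = n₁ := by
    rw [Module.finrank_fintype_fun_eq_card, Fintype.card_fin]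
  have hfW : Module.finrank F (Fin n₂ → F) = n₂ := by
    rw [Module.finrank_fintype_fun_eq_card, Fintype.card_fin]
  have : Nontrivial (Fin n₂ → F) := Module.nontrivial_of_finrank_pos (R := F) (by omega)
  obtain ⟨p, hp⟩ := CharP.exists F
  have hpp : p.Prime := CharP.char_is_prime F p
  have hfp : Fact p.Prime := ⟨hpp⟩
  have hp2 : p ≠ 2 := by
    rintro rfl
    exact h2 (by exact_mod_cast CharP.cast_eq_zero F 2)
  refine Cfsg.Agent.H875.isMaximalIn_of _ ?_ ?_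
  · have h3 := Cfsg.Agent.H931.spGL_not_le_tensorProductSubgroup (F := F) hm (by omega : 2 ≤ n₁)
      (by omega : 2 ≤ n₂) e P
    obtain ⟨g, hg, hg'⟩ := SetLike.not_le_iff_exists.mp h3
    rw [← Cfsg.Agent.H875.toGL_range] at hg
    obtain ⟨g₀, rfl⟩ := hg
    exact ⟨g₀, hg'⟩
  · intro M hKM hprop
    have hH : ∀ g, InH (thE e P) g → g ∈ M := fun g hg =>
      hKM ((inH_iff (by omega) (by omega) h g).1 hg)
    rcases h.scalar_or_full h2 (by rw [hfW]; exact hn₂) (fun h3 => exists_sq_ne_one hodd fun h4 => hex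
      ⟨h4, by rw [← hfW]; exact h3⟩) hs0 hs hH with hscal | hfull
    · exfalso
      obtain ⟨g, hg, hgK⟩ := hprop
      apply hgK
      rw [← inH_iff (by omega) (by omega) h]
      exact inH_of_mem hp2 h (by rw [hfU]; exact hn₁) (by rw [hfW]; exact hn₂) hs0 hs hH hscal hg
    · exact Cfsg.Agent.H875.eq_top_of_full hfull

end Cfsg.Agent.H879.TenS
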